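import Cfsg.Agent.Rank2.FSiteB
import Cfsg.Agent.Rank2.FSiteC
import Cfsg.Agent.Rank2.PreEnd
import Cfsg.Agent.Gate.R2F

/-!
# Weakly embedded subgroups of groups with quasi-dihedral or wreathed Sylow 2-subgroups
-/

set_option autoImplicit false

open scoped commutatorElement
open Cfsg Cfsg.Agent Cfsg.Lib.Trans Cfsg.Lib.Known Cfsg.Lib.Solv Subgroup Cfsg.Lib.Rank2.FX

namespace Cfsg.Lib.Rank2

universe u w

variable {X : Type u} [Group X] [Finite X]

theorem mem_Kz_of_normal {L : Subgroup X} [L.Normal] {v a : L} (h : (a : X) ∈ Kz (v : X)) :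
    a ∈ Kz v :=
  le_Kz (N := (Kz (v : X)).subgroupOf L)
    (fun _ hb => mem_Cz.2 (Subtype.ext (mem_Cz.1 (Kz_le _ hb))))
    (fun _ hc => mem_normalizer_of_cj_le (cj_le_iff.2 fun _ hb => mem_normalizer_conj (T := Kz (v : X))
      (Cz_le_Nz_Kz _ (mem_Cz.2 (congrArg Subtype.val (mem_Cz.1 hc)))) hb))
    ((odd_Kz _).of_dvd_nat (card_comap_dvd_of_injective _ _ (subtype_injective _))) h

omit [Finite X] in
theorem mem_of_odd_index {L : Subgroup X} [L.Normal] (ho : Odd L.index) {x : X} {k : ℕ}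
    (h : x ^ 2 ^ k = 1) : x ∈ L := by
  rw [← QuotientGroup.eq_one_iff, ← orderOf_eq_one_iff]
  refine Nat.eq_one_of_dvd_coprimes ((Nat.coprime_two_right.2 ho).pow_right k)
    (orderOf_dvd_natCard _) (orderOf_dvd_of_pow_eq_one ?_)
  rw [← QuotientGroup.mk_pow, h, QuotientGroup.mk_one]

theorem weak_core [Gate.R2F.{u}] {S : Type w} [Group S] (E : SylEmb S X)
    (hS : IsQuasiDihedral S ∨ IsWreathed S) (hG : ∀ H : Subgroup X, H.index ≠ 2)
    (hO : oddCore X = ⊥) {H N : Subgroup X} (hN : Odd (Nat.card N)) (hHN : H ≤ Nz N) {y : X}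
    (hy : y ∈ H) (hy2 : orderOf y = 2)
    (hcov : ∀ y ∈ H, orderOf y = 2 → ∀ c ∈ Cz y, ∃ h ∈ H, ∃ o ∈ Kz y, c = h * o) : N = ⊥ := by
  obtain ⟨L, hL, ho, hs, hna⟩ := qw_exists_simple hS E hG hO
  have hinv : ∀ {x : X}, x * x = 1 → x ∈ L := fun h =>
    mem_of_odd_index ho (k := 1) (by rw [pow_one, sq, h])
  obtain ⟨P, hP⟩ := (E.restrict L (by
    rintro _ ⟨s, rfl⟩
    obtain ⟨k, hk⟩ := qw_isPGroup hS s
    exact mem_of_odd_index ho (k := k) (by rw [← map_pow, hk, map_one]))).exists_sylow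
    (qw_isPGroup hS)
  have e : S ≃* P := (MonoidHom.ofInjective (SylEmb.inj _)).trans (MulEquiv.subgroupCongr hP.symm)
  have hP' := hS.imp (isQuasiDihedral_of_equiv e) (isWreathed_of_equiv e)
  obtain ⟨F, _, _, Γ₀, -⟩ := exists_pre P hP' (index_ne_two_of_qw P hP')
  have hA : ∀ {v : X}, orderOf v = 2 → ∀ k ∈ Kz v, ∀ w ∈ Cz v, w * w = 1 → k * w = w * k := by
    intro v hv k hk w hw hww
    obtain ⟨Γ, hz, -⟩ := Γ₀.exists_z_eq (v := ⟨v, hinv (mul_self_of_two hv)⟩)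
      ((orderOf_mk _ _).trans hv)
    have h1 := commutator_mem_of_Nz (Cz_le_Nz_Kz v hw) hk
    have h2 : ⁅k, w⁆ ∈ L := mul_mem (hL.conj_mem _ (hinv hww) k) (inv_mem (hinv hww))
    have h4 := (Good.mk Γ (Gate.R2F.out Γ)).K_comm (k := ⟨_, h2⟩) (v := ⟨w, hinv hww⟩)
      (by change _ ∈ Kz Γ.z; rw [hz]; exact mem_Kz_of_normal h1)
      (by change _ ∈ Cz Γ.z; rw [hz]; exact mem_Cz.2 (Subtype.ext (mem_Cz.1 hw))) (Subtype.ext hww)
    have h5 : ⁅k, w⁆ * w = w * ⁅k, w⁆ := congrArg Subtype.val h4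
    rw [← commutatorElement_eq_one_iff_mul_comm]
    refine eq_one_of_odd_of_mul_self (odd_orderOf (odd_Kz v) h1) ?_
    calc ⁅k, w⁆ * ⁅k, w⁆ = ⁅k, w⁆ * (⁅k, w⁆ * w) * w * (w * w)⁻¹ := by group
      _ = k * (w * w) * k⁻¹ * (w * w)⁻¹ := by
        rw [h5, commutatorElement_def]
        group
      _ = 1 := by rw [hww]; group
  obtain ⟨Γ, hz, -⟩ := Γ₀.exists_z_eq (v := ⟨y, hinv (mul_self_of_two hy2)⟩)
    ((orderOf_mk _ _).trans hy2)
  obtain rfl : y = Γ.z := by rw [hz]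
  obtain ⟨u, huS, hu, huz⟩ := Γ.exists_invol
  have h4 := Γ.fourPair hu (Γ.S_le_C huS) huz
  have h4' : IsFourPair (Γ.z : X) u := ⟨congrArg Subtype.val h4.sq_a, congrArg Subtype.val h4.sq_b,
    congrArg Subtype.val h4.comm, fun h => h4.a_ne (Subtype.ext h),
    fun h => h4.b_ne (Subtype.ext h), fun h => h4.ne (Subtype.ext h)⟩
  have huH : (u : X) ∈ H := by
    obtain ⟨h, hh, o, ho, e⟩ := hcov _ hy hy2 u (mem_Cz.2 h4'.comm)
    obtain ⟨n, hn⟩ := odd_orderOf (odd_Kz _) ho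
    have h1 : Commute (u : X) o⁻¹ :=
      Commute.inv_right (hA hy2 o ho u (mem_Cz.2 h4'.comm) h4'.sq_b).symm
    have h2 := pow_mem hh (orderOf o)
    rwa [eq_mul_inv_of_mul_eq e.symm, h1.mul_pow, inv_pow, pow_orderOf_eq_one, inv_one, mul_one, hn,
      pow_succ, pow_mul, sq, h4'.sq_b, one_pow, one_mul] at h2
  have hK : ∀ v ∈ H, orderOf v = 2 → N ⊓ Cz v ≤ Kz v := fun v hv hv2 =>
    le_sup_right.trans (le_Kz (N := Kz v ⊔ N ⊓ Cz v) (sup_le (Kz_le v) inf_le_right)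
      (fun c hc => by
        obtain ⟨h, hh, o, ho, rfl⟩ := hcov v hv hv2 c hc
        have h1 : h ∈ Cz v := (mul_mem_cancel_right (Kz_le v ho)).1 hc
        exact mul_mem (mem_Nz_sup (Cz_le_Nz_Kz v h1) (mem_Nz_inf (hHN hh) (mem_Nz_Cz h1)))
          (le_normalizer (mem_sup_left ho)))
      (odd_sup (odd_Kz v) (odd_of_le inf_le_left hN) (inf_le_right.trans (Cz_le_Nz_Kz v))))
  have hu2 : orderOf (u : X) = 2 := (orderOf_coe u).trans hu
  have ht2 : orderOf ((Γ.z : X) * u) = 2 :=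
    (orderOf_coe (Γ.z * u)).trans (Γ.orderOf_z_mul hu (Γ.S_le_C huS) huz)
  have hT : ∀ {a b : X}, IsFourPair a b → orderOf a = 2 → Kz a ≤ Tz a b := fun h ha k hk =>
    ⟨Kz_le _ hk, mem_Cz.2 (hA ha k hk _ (mem_Cz.2 h.comm) h.sq_b)⟩
  have h1 : N ≤ Tz (Γ.z : X) u := le_of_four h4' hN (hHN hy) (hHN huH)
    ((hK _ hy hy2).trans (hT h4' hy2))
    ((hK _ huH hu2).trans ((hT (four_ut h4') hu2).trans (Tz_ut h4').le))
    ((hK _ (mul_mem hy huH) ht2).trans ((hT (four_tu h4') ht2).trans (Tz_tu h4').le))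
  let D := Kz (Γ.z : X) ⊓ Kz (u : X) ⊓ Kz ((Γ.z : X) * u)
  have h2 : N ≤ D := fun n hn => ⟨⟨hK _ hy hy2 ⟨hn, (h1 hn).1⟩, hK _ huH hu2 ⟨hn, (h1 hn).2⟩⟩,
    hK _ (mul_mem hy huH) ht2 ⟨hn, Tz_le_mul _ _ (h1 hn)⟩⟩
  have hcen : ∀ c : X, (∀ d ∈ D, d * c = c * d) → c ∈ Nz D := fun c h =>
    centralizer_le_normalizer _ (mem_centralizer_iff.2 h)
  obtain ⟨r, r1, r2⟩ := Γ.exists_rho hu (Γ.S_le_C huS) huz
  have h3 : (Nz D).subgroupOf L = ⊤ := by
    refine Γ.eq_top0 h4 ?_ r ?_ r1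
    · rcases (GMC.three_le_card Γ.hF).lt_or_eq with h3 | h3
      · refine (Γ.gen0 h3 h4).trans (sup_le ((closure_le _).2 ?_) fun τ hτ => ?_)
        · rintro _ ⟨c, hc, rfl⟩
          refine hcen _ fun d hd => hA hy2 d hd.1.1 _ (mem_Cz.2 (congrArg Subtype.val (mem_Cz.1
            (mul_mem (mul_mem hc (Γ.S_le_C huS)) (inv_mem hc))))) ?_
          simp [conj_mul, h4'.sq_b]
        · have : (τ : X) ∈ Tz (Γ.z : X) u := ⟨mem_Cz.2 (congrArg Subtype.val (mem_Cz.1 hτ.1)),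
            mem_Cz.2 (congrArg Subtype.val (mem_Cz.1 hτ.2))⟩
          exact mem_Nz_inf (mem_Nz_inf (Tz_le_Nz_left _ _ this) (Tz_le_Nz_right _ _ this))
            (Tz_le_Nz_mul _ _ this)
      · intro c hc
        refine hcen _ fun d hd => commutatorElement_eq_one_iff_mul_comm.1 ?_
        have h5 : ⁅d, (c : X)⁆ ∈ L := mul_mem (hL.conj_mem _ c.2 d) (inv_mem c.2)
        exact congrArg Subtype.val ((Good.mk Γ (Gate.R2F.out Γ)).eq_one_of_small (f := 1)
          h3.symm (one_dvd _) (k := ⟨_, h5⟩) (mem_Kz_of_normal (commutator_mem_of_Nz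
            (Cz_le_Nz_Kz _ (mem_Cz.2 (congrArg Subtype.val (mem_Cz.1 hc)))) hd.1.1)) (.inl rfl))
    · have r1' : (r : X) * Γ.z * (r : X)⁻¹ = u := congrArg Subtype.val r1
      have r2' : (r : X) * u * (r : X)⁻¹ = Γ.z * u := congrArg Subtype.val r2
      refine cj_eq_self_iff.1 ?_
      simp only [D, coe_subtype, cj_inf, cj_Kz]
      rw [← conj_mul_conj, r1', r2', four_u_t h4']
      ac_rfl
  have h5 : L ≤ Nz D := subgroupOf_eq_top.1 h3
  have h6 : D.subgroupOf L = ⊥ :=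
    (hs.eq_bot_or_eq_top_of_normal _ (normal_subgroupOf_of_le_normalizer h5)).resolve_right
      fun h => by
        have := odd_orderOf (odd_Kz _) (subgroupOf_eq_top.1 h Γ.z.2).1.1
        rw [hy2] at this
        exact absurd this (by decide)
  have h7 : centralizer (L : Set X) ≤ oddCore X := by
    refine le_pPrimeCore inferInstance (Nat.coprime_two_right.2 (Nat.not_even_iff_odd.1 fun h => ?_))
    obtain ⟨t, ht⟩ := exists_prime_orderOf_dvd_card' 2 h.two_dvd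
    have h8 : (t : X) * t = 1 := congrArg Subtype.val (mul_self_of_two ht)
    rcases hs.eq_bot_or_eq_top_of_normal (center L) inferInstance with h9 | h9
    · have := mem_bot.1 (h9.le
        (x := ⟨t, hinv h8⟩) (mem_center_iff.2 fun g => Subtype.ext (t.2 g g.2)))
      exact ne_one_of_two ht (Subtype.ext (congrArg (Subtype.val : L → X) this))
    · exact hna ⟨⟨fun a b => mem_center_iff.1 (h9.ge (mem_top b)) a⟩⟩
  refine eq_bot_iff.2 (h2.trans (hO ▸ le_trans (fun d hd => mem_centralizer_iff.2 fun l hl =>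
    commutatorElement_eq_one_iff_mul_comm.1 ?_) h7))
  have h8 : ⁅l, d⁆ ∈ L := by
    simpa [commutatorElement_def, mul_assoc] using mul_mem hl (hL.conj_mem _ (inv_mem hl) d)
  exact congrArg Subtype.val (mem_bot.1 (h6.le (x := ⟨_, h8⟩) (commutator_mem_of_Nz' (h5 hl) hd)))

/-- The core of a weakly embedded subgroup lies in the core of the group. -/
theorem weak_core' [Gate.R2F.{u}] (S : Sylow 2 X)
    (hS : IsQuasiDihedral (S : Subgroup X) ∨ IsWreathed (S : Subgroup X))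
    (hG : ∀ H : Subgroup X, H.index ≠ 2) {H N : Subgroup X} (hN : Odd (Nat.card N))
    (hHN : H ≤ Nz N) {y : X} (hy : y ∈ H) (hy2 : orderOf y = 2)
    (hcov : ∀ y ∈ H, orderOf y = 2 → ∀ c ∈ Cz y, ∃ h ∈ H, ∃ o ∈ Kz y, c = h * o) :
    N ≤ oddCore X := by
  have hO : Odd (Nat.card (oddCore X)) := Nat.coprime_two_right.1 (coprime_card_pPrimeCore 2 X)
  let π := QuotientGroup.mk' (oddCore X)
  have hπ : ∀ {x}, π x = 1 ↔ x ∈ oddCore X := QuotientGroup.eq_one_iff _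
  have h1 : ∀ {v : X}, v * v = 1 → ∀ c ∈ Cz (π v), ∃ c' ∈ Cz v, π c' = c := by
    intro v hv c hc
    obtain ⟨c, rfl⟩ := QuotientGroup.mk'_surjective _ c
    obtain ⟨n, hn, c', hc', rfl⟩ := exists_mul_Cz hv hO ((normalizer_eq_top _).ge (mem_top v))
      (g := c) (hπ.1 (by rw [map_commutatorElement]; exact mem_Cz_iff_commutator.1 hc))
    exact ⟨c', hc', by rw [map_mul, hπ.2 hn, one_mul]⟩
  have h2 := weak_core ((SylEmb.ofSylow S).quot S.isPGroup') hS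
    (fun H h => hG _ ((H.index_comap_of_surjective (QuotientGroup.mk'_surjective _)).trans h))
    (pPrimeCore_quotient_pPrimeCore 2 X) (H := H.map π) (N := N.map π)
    (hN.of_dvd_nat (Subgroup.card_map_dvd _ _)) ((map_mono hHN).trans (le_normalizer_map π))
    (y := π y) ⟨y, hy, rfl⟩ (orderOf_eq_prime (by rw [← map_pow, sq, mul_self_of_two hy2, map_one])
      fun h => by
        have := odd_orderOf hO (hπ.1 h)
        rw [hy2] at this
        exact absurd this (by decide)) ?_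
  · rwa [Subgroup.map_eq_bot_iff, QuotientGroup.ker_mk'] at h2
  rintro _ ⟨h, hh, rfl⟩ h2 c hc
  obtain ⟨n, hn⟩ := odd_orderOf hO (hπ.1 ((map_mul π h h).trans (mul_self_of_two h2)))
  have e : π (h ^ orderOf (h * h)) = π h := by
    rw [map_pow, hn, pow_succ, pow_mul, sq, mul_self_of_two h2, one_pow, one_mul]
  have hv : h ^ orderOf (h * h) * h ^ orderOf (h * h) = 1 := by
    rw [← (Commute.refl h).mul_pow, pow_orderOf_eq_one]
  rw [← e] at h2 hc ⊢
  have hv' := pow_mem hh (orderOf (h * h))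
  generalize h ^ orderOf (h * h) = v at *
  obtain ⟨c, hc', rfl⟩ := h1 hv c hc
  obtain ⟨a, ha, o, ho, rfl⟩ := hcov v hv' (orderOf_eq_prime (by rw [sq, hv])
    fun h => ne_one_of_two h2 (by rw [h, map_one])) c hc'
  refine ⟨_, ⟨a, ha, rfl⟩, π o, le_Kz (N := (Kz v).map π) ?_ (fun d hd => ?_)
    ((odd_Kz v).of_dvd_nat (Subgroup.card_map_dvd _ _)) ⟨o, ho, rfl⟩, map_mul _ _ _⟩
  · rintro _ ⟨k, hk, rfl⟩
    exact mem_Cz.2 (by rw [← map_mul, mem_Cz.1 (Kz_le v hk), map_mul])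
  · obtain ⟨d, hd', rfl⟩ := h1 hv d hd
    exact le_normalizer_map π ⟨d, Cz_le_Nz_Kz v hd', rfl⟩

end Cfsg.Lib.Rank2
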