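import Cfsg.Agent.Rank2.StdB
import Cfsg.Agent.Solv.MetacyclicP
import Cfsg.Agent.Local.Tight

/-!
# Bicyclic 2-groups: the maximal subgroup `⟨x⟩⟨y²⟩` is metacyclic
-/

set_option autoImplicit false

namespace Cfsg.Lib.Rank2.Bic

open Subgroup Cfsg.Lib.Trans Cfsg.Lib.Rank2.Std
open scoped commutatorElement

universe u

variable {X : Type u} [Group X] {M : Subgroup X} {a b c w x y v : X}

theorem meta_of_gens (ha : a ∈ M) (hb : b ∈ M) (hn : ∀ m ∈ M, m * a * m⁻¹ ∈ zpowers a)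
    (hg : M ≤ zpowers a ⊔ zpowers b) : IsMetacyclic M := by
  refine Solv.Meta.iff_gens.2 ⟨⟨a, ha⟩, ⟨b, hb⟩, ⟨?_⟩, ?_⟩
  · rintro _ ⟨i, rfl⟩ g
    obtain ⟨k, hk⟩ := hn g g.2
    refine ⟨k * i, Subtype.ext ?_⟩
    have hk' : a ^ k = g * a * (g : X)⁻¹ := hk
    show a ^ (k * i) = g * a ^ i * (g : X)⁻¹
    rw [zpow_mul, hk', conj_zpow]
  · apply map_injective M.subtype_injective
    rw [Solv.Meta.closure_pair_eq_sup, Subgroup.map_sup, MonoidHom.map_zpowers, MonoidHom.map_zpowers,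
      ← MonoidHom.range_eq_map, range_subtype]
    exact le_antisymm (sup_le (zpowers_le.2 ha) (zpowers_le.2 hb)) hg

theorem gens_of_meta (h : IsMetacyclic M) : ∃ a ∈ M, ∃ b ∈ M,
    (∀ m ∈ M, m * a * m⁻¹ ∈ zpowers a) ∧ M ≤ zpowers a ⊔ zpowers b := by
  obtain ⟨a, b, hn, hg⟩ := Solv.Meta.iff_gens.1 h
  refine ⟨a, a.2, b, b.2, fun m hm => ?_, ?_⟩
  · obtain ⟨k, hk⟩ := hn.conj_mem a (mem_zpowers a) ⟨m, hm⟩
    exact ⟨k, congrArg Subtype.val hk⟩
  · have := congrArg (map M.subtype) hg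
    rw [Solv.Meta.closure_pair_eq_sup, Subgroup.map_sup, MonoidHom.map_zpowers, MonoidHom.map_zpowers,
      ← MonoidHom.range_eq_map, range_subtype] at this
    exact this.ge

theorem conj_zpowers_of (h : b * a * b⁻¹ ∈ zpowers a) {f : X} (hf : f ∈ zpowers a) :
    b * f * b⁻¹ ∈ zpowers a := zpowers_le.2 h (conj_mem_zpowers_conj hf b)

theorem mem_Ns_zpowers [Finite X] (h : b * a * b⁻¹ ∈ zpowers a) :
    b ∈ normalizer (zpowers a : Set X) :=
  mem_normalizer_of_cj_le (by rw [cj_zpowers]; exact zpowers_le.2 h)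

theorem comm_mem_sq {f : X} (hb : b ∈ normalizer (zpowers a : Set X))
    (hf : f ∈ zpowers a) : f * b * f⁻¹ * b⁻¹ ∈ zpowers (a * a) := by
  have n2 : ∀ s ∈ normalizer (zpowers a : Set X), ∀ g ∈ zpowers (a * a),
      s * g * s⁻¹ ∈ zpowers (a * a) := fun s hs g hg => by
    obtain ⟨e, he, rfl⟩ := mem_sq_iff.1 hg
    exact mem_sq_iff.2 ⟨_, mem_normalizer_conj hs he, by group⟩
  have e : f * b * f⁻¹ * b⁻¹ = f * (b * f⁻¹ * b⁻¹) := by group
  rw [e]
  by_cases h2 : f ∈ zpowers (a * a)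
  · exact mul_mem h2 (n2 b hb _ (inv_mem h2))
  · refine mul_mem_sq hf (mem_normalizer_conj hb (inv_mem hf)) h2 fun h3 => h2 ?_
    have := inv_mem (n2 _ (inv_mem hb) _ h3)
    convert this using 1
    group

/-- The commutator subgroup of a group generated by elements commuting modulo `D`. -/
theorem commutator_le_of_gens {D H : Subgroup X} (s : Set X) (hM : H ≤ closure s)
    (hD : ∀ g ∈ s, g ∈ normalizer (D : Set X)) (hc : ∀ g ∈ s, ∀ h ∈ s, ⁅g, h⁆ ∈ D) :
    ⁅H, H⁆ ≤ D := by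
  have hN : closure s ≤ normalizer (D : Set X) := (closure_le _).2 hD
  have key : ∀ g ∈ closure s, (∀ h ∈ s, ⁅g, h⁆ ∈ D) → ∀ h ∈ closure s, ⁅g, h⁆ ∈ D := by
    intro g _ hg h hh
    induction hh using closure_induction with
    | mem h hh => exact hg h hh
    | one => rw [commutatorElement_one_right]; exact one_mem _
    | mul h k hh _ ih1 ih2 =>
      have := mul_mem ih1 (mem_normalizer_conj (hN hh) ih2)
      convert this using 1
      simp only [commutatorElement_def]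
      group
    | inv h hh ih =>
      have := mem_normalizer_conj' (hN hh) (inv_mem ih)
      convert this using 1
      simp only [commutatorElement_def]
      group
  refine commutator_le.2 fun g hg h hh => key g (hM hg) (fun k hk => ?_) h (hM hh)
  rw [← commutatorElement_inv]
  exact inv_mem (key k (subset_closure hk) (hc k hk) g (hM hg))

/-- Blackburn's lifting step. -/
theorem meta_lift [Finite X] [M.Normal] (hc : ∀ g, g * w = w * g)
    (ww : w * w = 1) (hw : w ∈ normalClosure {f | ∃ c ∈ ⁅M, M⁆, f = c * c} ⊔ ⁅⁅M, M⁆, M⁆)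
    (hwM : w ∈ M) [(zpowers w).Normal]
    (h : IsMetacyclic (M.map (QuotientGroup.mk' (zpowers w)))) : IsMetacyclic M := by
  obtain ⟨_, ⟨a, ha, rfl⟩, _, ⟨b, hb, rfl⟩, hn, hg⟩ := gens_of_meta h
  have hg' : M ≤ zpowers a ⊔ zpowers b ⊔ zpowers w := by
    rw [← MonoidHom.map_zpowers, ← MonoidHom.map_zpowers, ← Subgroup.map_sup, map_le_iff_le_comap,
      comap_map_eq, QuotientGroup.ker_mk'] at hg
    exact hg
  have hn' : ∀ m ∈ M, ∃ k : ℤ, ∃ u ∈ zpowers w, m * a * m⁻¹ = a ^ k * u := fun m hm => by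
    obtain ⟨k, hk⟩ := hn _ (mem_map_of_mem _ hm)
    refine ⟨k, _, QuotientGroup.eq.1 (show ((a ^ k : X) : X ⧸ zpowers w) = (m * a * m⁻¹ : X) from hk),
      by group⟩
  by_cases hwa : w ∈ zpowers a
  · refine meta_of_gens ha hb (fun m hm => ?_)
      (hg'.trans (sup_le le_rfl (zpowers_le.2 (mem_sup_left hwa))))
    obtain ⟨k, u, hu, e⟩ := hn' m hm
    rw [e]
    exact mul_mem (zpow_mem (mem_zpowers a) k) (zpowers_le.2 hwa hu)
  exfalso
  obtain ⟨k, u, hu, e⟩ := hn' b hb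
  have huc : ∀ g, Commute g u := fun g => comm_zpowers (hc g) hu
  have uu : u * u = 1 := by
    rcases mem_zpowers_invol ww hu with h1 | h1 <;> rw [h1]
    exacts [one_mul 1, ww]
  set d := a ^ (k - 1) * u with hd
  have ed : ⁅b, a⁆ = d := by
    rw [commutatorElement_def, e, hd, mul_assoc, ← (huc a⁻¹).eq]
    group
  have hbd : b * d * b⁻¹ ∈ zpowers d := by
    refine ⟨k, ?_⟩
    show d ^ k = b * d * b⁻¹
    calc d ^ k = (a ^ (k - 1)) ^ k * u ^ k := (huc _).mul_zpow k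
      _ = (a ^ k) ^ (k - 1) * u ^ (k - 1) * u := by group
      _ = (b * a * b⁻¹) ^ (k - 1) * u := by rw [e, (huc _).mul_zpow]
      _ = b * a ^ (k - 1) * (b⁻¹ * u) := by rw [conj_zpow]; group
      _ = b * d * b⁻¹ := by rw [(huc b⁻¹).eq, hd]; group
  have had : a * d * a⁻¹ ∈ zpowers d := by
    have : a * d * a⁻¹ = d := by
      rw [hd, mul_assoc, mul_assoc, ← (huc a⁻¹).eq]
      group
    rw [this]
    exact mem_zpowers d
  have hwd : w * d * w⁻¹ ∈ zpowers d := by
    rw [← hc d, mul_inv_cancel_right]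
    exact mem_zpowers d
  have hMN : M ≤ normalizer (zpowers d : Set X) := hg'.trans (sup_le (sup_le
    (zpowers_le.2 (mem_Ns_zpowers had)) (zpowers_le.2 (mem_Ns_zpowers hbd)))
    (zpowers_le.2 (mem_Ns_zpowers hwd)))
  have hD : ⁅M, M⁆ ≤ zpowers d := by
    refine commutator_le_of_gens {a, b, w} (hg'.trans (sup_le (sup_le ?_ ?_) ?_)) ?_ ?_
    · exact zpowers_le.2 (subset_closure (by simp))
    · exact zpowers_le.2 (subset_closure (by simp))
    · exact zpowers_le.2 (subset_closure (by simp))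
    · rintro g (rfl | rfl | rfl)
      exacts [hMN ha, hMN hb, hMN hwM]
    · have h1 : ∀ g, ⁅g, w⁆ ∈ zpowers d := fun g => by
        rw [commutatorElement_eq_one_iff_mul_comm.2 (hc g)]; exact one_mem _
      have h2 : ∀ g, ⁅w, g⁆ ∈ zpowers d := fun g => by
        rw [commutatorElement_eq_one_iff_mul_comm.2 (hc g).symm]; exact one_mem _
      have h3 : ∀ g : X, ⁅g, g⁆ ∈ zpowers d := fun g => by
        rw [commutatorElement_self]; exact one_mem _
      have h4 : ⁅b, a⁆ ∈ zpowers d := ed ▸ mem_zpowers d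
      have h5 : ⁅a, b⁆ ∈ zpowers d := by rw [← commutatorElement_inv]; exact inv_mem h4
      rintro g (rfl | rfl | rfl) h (rfl | rfl | rfl)
      exacts [h3 _, h5, h1 _, h4, h3 _, h1 _, h2 _, h2 _, h3 _]
  have hw2 : w ∈ zpowers (d * d) := by
    refine (sup_le ?_ ?_ : _ ≤ zpowers (d * d)) hw
    · refine (closure_le _).2 fun f hf => ?_
      obtain ⟨_, ⟨c, hc, rfl⟩, h2⟩ := Group.mem_conjugatesOfSet_iff.1 hf
      obtain ⟨g, rfl⟩ := isConj_iff.1 h2
      have := sq_mem_sq (hD (Normal.conj_mem inferInstance c hc g))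
      show _ ∈ zpowers (d * d)
      rwa [show g * (c * c) * g⁻¹ = g * c * g⁻¹ * (g * c * g⁻¹) by group]
    · exact commutator_le.2 fun f hf m hm => comm_mem_sq (hMN hm) (hD hf)
  refine hwa (zpowers_le.2 ?_ hw2)
  have : d * d = a ^ (k - 1) * a ^ (k - 1) := by
    rw [hd, mul_assoc, ← mul_assoc u, ← (huc _).eq, mul_assoc, uu, mul_one]
  rw [this]
  exact mul_mem (zpow_mem (mem_zpowers a) _) (zpow_mem (mem_zpowers a) _)

theorem zpow_mul_zpow_comm (hx : c * x = x * c) (hv : c * v = v * c) (e : x * v = c * v * x)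
    (i j : ℤ) : x ^ i * v ^ j = c ^ (i * j) * v ^ j * x ^ i := by
  have h1 : x * v ^ j * x⁻¹ = c ^ j * v ^ j := by
    rw [← conj_zpow, e, mul_inv_cancel_right, (show Commute c v from hv).mul_zpow]
  have h2 : (v ^ j)⁻¹ * x * (v ^ j)⁻¹⁻¹ = c ^ j * x := by
    calc (v ^ j)⁻¹ * x * (v ^ j)⁻¹⁻¹ = (v ^ j)⁻¹ * (x * v ^ j * x⁻¹) * x := by group
      _ = c ^ j * x := by
        rw [h1, ((show Commute c v from hv).zpow_zpow j j).eq]; group
  have h3 : (v ^ j)⁻¹ * x ^ i * (v ^ j)⁻¹⁻¹ = c ^ (i * j) * x ^ i := by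
    rw [← conj_zpow, h2, ((show Commute c x from hx).zpow_left j).mul_zpow, ← zpow_mul, mul_comm j]
  calc x ^ i * v ^ j = v ^ j * ((v ^ j)⁻¹ * x ^ i * (v ^ j)⁻¹⁻¹) := by group
    _ = _ := by
      rw [h3, ← mul_assoc, ((show Commute c v from hv).zpow_zpow _ j).eq]

theorem even_of_zpow (cc : c * c = 1) (c1 : c ≠ 1) {i : ℤ} (h : c ^ i = 1) : Even i := by
  rcases Int.even_or_odd' i with ⟨j, rfl | rfl⟩
  · exact even_two_mul j
  · rw [zpow_add_one, two_mul, zpow_add, ← sq_zpow, cc, one_zpow, one_mul] at h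
    exact (c1 h).elim

theorem zpow_even (cc : c * c = 1) {i : ℤ} (h : Even i) : c ^ i = 1 := by
  obtain ⟨j, rfl⟩ := h
  rw [zpow_add, ← sq_zpow, cc, one_zpow]

theorem zpow_odd (cc : c * c = 1) {i : ℤ} (h : Odd i) : c ^ i = c := by
  obtain ⟨j, rfl⟩ := h
  rw [zpow_add_one, zpow_even cc (even_two_mul j), one_mul]

/-- The case of class two. -/
theorem meta_class_two [Finite X] (hX : IsPGroup 2 X) [hM : M.Normal] (hx : x ∈ M) (hv : y * y ∈ M)
    (hb : ∀ m ∈ M, ∃ i j : ℤ, m = x ^ i * (y * y) ^ j)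
    (h1 : ∀ f ∈ ⁅M, M⁆, ∀ m ∈ M, f * m = m * f) (h2 : ∀ f ∈ ⁅M, M⁆, f * f = 1) :
    IsMetacyclic M := by
  obtain ⟨v, ev⟩ : ∃ v, v = y * y := ⟨_, rfl⟩
  rw [← ev] at hv hb
  obtain ⟨c, ec⟩ : ∃ c, c = ⁅x, v⁆ := ⟨_, rfl⟩
  have hcM : c ∈ ⁅M, M⁆ := ec ▸ commutator_mem_commutator hx hv
  have cc := h2 c hcM
  have hc := h1 c hcM
  have e : x * v = c * v * x := by rw [ec, commutatorElement_def]; group
  have hcm := zpow_mul_zpow_comm (hc x hx) (hc v hv) e
  have hg : ∀ {a b}, x ∈ zpowers a ⊔ zpowers b → v ∈ zpowers a ⊔ zpowers b →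
      M ≤ zpowers a ⊔ zpowers b := fun h3 h4 m hm => by
    obtain ⟨i, j, rfl⟩ := hb m hm
    exact mul_mem (zpow_mem h3 i) (zpow_mem h4 j)
  have hD : ⁅M, M⁆ ≤ zpowers c := by
    refine commutator_le_of_gens {x, v} ?_ ?_ ?_
    · rw [Solv.Meta.closure_pair_eq_sup]
      exact hg (mem_sup_left (mem_zpowers x)) (mem_sup_right (mem_zpowers v))
    · rintro g (rfl | rfl) <;> refine mem_Ns_zpowers ?_
      · rw [← hc _ hx, mul_inv_cancel_right]; exact mem_zpowers c
      · rw [← hc _ hv, mul_inv_cancel_right]; exact mem_zpowers c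
    · have h3 : ∀ g : X, ⁅g, g⁆ ∈ zpowers c := fun g => by
        rw [commutatorElement_self]; exact one_mem _
      have h4 : ⁅x, v⁆ ∈ zpowers c := ec ▸ mem_zpowers c
      have h5 : ⁅v, x⁆ ∈ zpowers c := by rw [← commutatorElement_inv]; exact inv_mem h4
      rintro g (rfl | rfl) h (rfl | rfl)
      exacts [h3 _, h4, h5, h3 _]
  have fin : ∀ {a b}, a ∈ M → b ∈ M → c ∈ zpowers a → x ∈ zpowers a ⊔ zpowers b →
      v ∈ zpowers a ⊔ zpowers b → IsMetacyclic M := fun {a b} ha hb h3 h4 h5 =>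
    meta_of_gens ha hb (fun m hm => by
      have := mul_mem (zpowers_le.2 h3 (hD (commutator_mem_commutator hm ha))) (mem_zpowers a)
      rwa [commutatorElement_def, inv_mul_cancel_right] at this) (hg h4 h5)
  have finx : c ∈ zpowers x → IsMetacyclic M := fun h =>
    fin hx hv h (mem_sup_left (mem_zpowers x)) (mem_sup_right (mem_zpowers v))
  have finv : c ∈ zpowers v → IsMetacyclic M := fun h =>
    fin hv hx h (mem_sup_right (mem_zpowers x)) (mem_sup_left (mem_zpowers v))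
  by_cases c1 : c = 1
  · exact finx (c1 ▸ one_mem _)
  have hcM' : c ∈ M := commutator_le_left M M hcM
  -- squares of products
  have hsq : ∀ i j : ℤ, x ^ i * v ^ j * (x ^ i * v ^ j) =
      c ^ (i * j) * (x ^ i * x ^ i) * (v ^ j * v ^ j) := fun i j => by
    have h3 : v ^ j * x ^ i = c ^ (i * j) * (x ^ i * v ^ j) := by
      rw [hcm, ← mul_assoc, ← mul_assoc, ← zpow_add, zpow_even cc ⟨_, rfl⟩, one_mul]
    calc x ^ i * v ^ j * (x ^ i * v ^ j) = x ^ i * (v ^ j * x ^ i) * v ^ j := by group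
      _ = x ^ i * c ^ (i * j) * (x ^ i * v ^ j) * v ^ j := by rw [h3]; group
      _ = _ := by rw [← ((show Commute c x from hc x hx).zpow_zpow _ _).eq]; group
  have hev : ∀ i j : ℤ, Even (i * j) → Commute (x ^ i) (v ^ j) := fun i j h => by
    show _ = _
    rw [hcm, zpow_even cc h, one_mul]
  -- maximal depth
  obtain ⟨n, i, j, hn, hij⟩ : ∃ (n : ℕ) (i j : ℤ), c = x ^ (i * 2 ^ (n + 1)) * v ^ (j * 2 ^ (n + 1)) ∧
      (Odd i ∨ Odd j) := by
    obtain ⟨i, j, h3⟩ := hb c hcM'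
    have hj : Even j := even_of_zpow cc c1 (by
      have h4 := hc x hx
      have h5 := hcm 1 j
      rw [h3, mul_assoc, ← mul_assoc x, (Commute.zpow_self x i).symm.eq, mul_assoc,
        mul_right_inj] at h4
      rw [zpow_one, one_mul, ← h4, mul_assoc] at h5
      exact mul_eq_right.1 h5.symm)
    have hi : Even i := even_of_zpow cc c1 (by
      have h4 := hc v hv
      have h5 := hcm i 1
      rw [h3, mul_assoc, (Commute.zpow_self v j).eq, ← mul_assoc, ← mul_assoc,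
        mul_left_inj] at h4
      rw [zpow_one, mul_one, h4, mul_assoc] at h5
      exact mul_eq_right.1 h5.symm)
    obtain ⟨i, rfl⟩ := hi
    obtain ⟨j, rfl⟩ := hj
    by_contra hn
    push Not at hn
    have key : ∀ n : ℕ, ∃ i j : ℤ, c = x ^ (i * 2 ^ (n + 1)) * v ^ (j * 2 ^ (n + 1)) := by
      intro n
      induction n with
      | zero => exact ⟨i, j, by rw [h3]; congr 2 <;> ring⟩
      | succ n ih =>
        obtain ⟨i, j, h4⟩ := ih
        obtain ⟨⟨i, rfl⟩, ⟨j, rfl⟩⟩ := (hn n i j h4).imp Int.not_odd_iff_even.1 Int.not_odd_iff_even.1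
        exact ⟨i, j, by rw [h4]; congr 2 <;> ring⟩
    obtain ⟨k, hk⟩ := hX x
    obtain ⟨l, hl⟩ := hX v
    obtain ⟨i, j, h4⟩ := key (k + l)
    apply c1
    rw [h4, show i * 2 ^ (k + l + 1) = ((2 ^ k : ℕ) : ℤ) * (i * 2 ^ (l + 1)) by push_cast; ring,
      show j * 2 ^ (k + l + 1) = ((2 ^ l : ℕ) : ℤ) * (j * 2 ^ (k + 1)) by push_cast; ring,
      zpow_mul, zpow_mul v, zpow_natCast, zpow_natCast, hk, hl, one_zpow, one_zpow, one_mul]
  have hgM : x ^ i * v ^ j ∈ M := mul_mem (zpow_mem hx i) (zpow_mem hv j)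
  by_cases h3 : Even (i * j * 2 ^ n)
  · have h4 : c ∈ zpowers (x ^ i * v ^ j) := by
      refine sq_le _ ⟨2 ^ n, ?_⟩
      show (x ^ i * v ^ j * (x ^ i * v ^ j)) ^ ((2 : ℤ) ^ n) = c
      have k1 : Commute (c ^ (i * j)) (x ^ (i + i)) := (show Commute c x from hc x hx).zpow_zpow _ _
      have k2 : Commute (c ^ (i * j)) (v ^ (j + j)) := (show Commute c v from hc v hv).zpow_zpow _ _
      have k3 := hev (i + i) (j + j) (Even.mul_right ⟨i, rfl⟩ _)
      rw [hsq, ← zpow_add, ← zpow_add, (k2.mul_left k3).mul_zpow, k1.mul_zpow, ← zpow_mul,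
        ← zpow_mul, ← zpow_mul, zpow_even cc h3, one_mul, hn]
      congr 2 <;> ring
    rcases hij with hi | hj
    · refine fin hgM hv h4 (zpowers_le.2 ?_ ((show Two x from hX x).mem_zpowers_odd hi))
        (mem_sup_right (mem_zpowers v))
      have := mul_mem (mem_sup_left (mem_zpowers (x ^ i * v ^ j)) : _ ∈ _ ⊔ zpowers v)
        (mem_sup_right (inv_mem (zpow_mem (mem_zpowers v) j)))
      rwa [mul_inv_cancel_right] at this
    · refine fin hgM hx h4 (mem_sup_right (mem_zpowers x))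
        (zpowers_le.2 ?_ ((show Two v from hX v).mem_zpowers_odd hj))
      have := mul_mem (mem_sup_right (inv_mem (zpow_mem (mem_zpowers x) i)) : _ ∈ _ ⊔ zpowers x)
        (mem_sup_left (mem_zpowers (x ^ i * v ^ j)))
      rwa [inv_mul_cancel_left] at this
  obtain ⟨⟨hi, hj⟩, hn0⟩ : (Odd i ∧ Odd j) ∧ Odd ((2 : ℤ) ^ n) := by
    rw [Int.not_even_iff_odd, Int.odd_mul, Int.odd_mul] at h3
    exact h3
  obtain rfl : n = 0 := by
    by_contra h
    exact Int.not_odd_iff_even.2 ((Int.even_pow.2 ⟨even_two, h⟩)) hn0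
  have yv : y * v = v * y := by rw [ev]; group
  have yc : y * c * y⁻¹ = c := by
    rcases mem_zpowers_invol cc (hD (Normal.conj_mem inferInstance c hcM y)) with h | h
    · exact (c1 (by simpa using h)).elim
    · exact h
  have e2 : x ^ (i * 2) = c * v ^ (-(j * 2)) := by rw [hn]; group
  have yx2 : y * x ^ (i * 2) * y⁻¹ = x ^ (i * 2) := by
    rw [e2]
    calc y * (c * v ^ (-(j * 2))) * y⁻¹ = y * c * y⁻¹ * (y * v ^ (-(j * 2))) * y⁻¹ := by group
      _ = _ := by rw [yc, ((show Commute y v from yv).zpow_right _).eq]; group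
  have yx2' : ∀ k : ℤ, Commute y (x ^ (k * 2)) := fun k => by
    obtain ⟨s, hs⟩ := (show Two x from hX x).mem_zpowers_odd hi
    have hs' : (x ^ i) ^ s = x := hs
    have : x ^ (k * 2) = (x ^ (i * 2)) ^ (s * k) := by
      nth_rewrite 1 [← hs']
      group
    rw [this]
    exact (show Commute y _ from mul_inv_eq_iff_eq_mul.1 yx2).zpow_right _
  obtain ⟨k, l, hkl⟩ := hb _ (hM.conj_mem x hx y)
  have hk : Odd k := by
    by_contra hk
    apply c1
    have h4 : Commute (y * x * y⁻¹) v := by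
      rw [hkl]
      exact Commute.mul_left (by simpa using hev k 1 (by simpa using hk)) (Commute.zpow_self v l)
    calc c = y * c * y⁻¹ := yc.symm
      _ = ⁅y * x * y⁻¹, y * v * y⁻¹⁆ := by rw [ec]; simp only [commutatorElement_def]; group
      _ = 1 := by rw [yv, mul_inv_cancel_right]; exact h4.commutator_eq
  have hxx : y * x * y⁻¹ * (y * x * y⁻¹) = x * x := by
    have := (yx2' 1).eq
    rw [one_mul, zpow_two] at this
    calc y * x * y⁻¹ * (y * x * y⁻¹) = y * (x * x) * y⁻¹ := by group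
      _ = x * x := by rw [this]; group
  obtain ⟨k, rfl⟩ := hk
  rcases Int.even_or_odd l with hl | hl
  · exfalso
    apply c1
    have k1 : Commute x (v ^ l) := by simpa using hev 1 l (by simpa using hl)
    have k2 : Commute x (x ^ (k * 2) * v ^ l) := (Commute.self_zpow x _).mul_right k1
    have k3 : Commute y (x ^ (k * 2) * v ^ l) :=
      (yx2' k).mul_right ((show Commute y v from yv).zpow_right l)
    have k4 : y * x * y⁻¹ = x * (x ^ (k * 2) * v ^ l) := by rw [hkl]; group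
    generalize x ^ (k * 2) * v ^ l = φ at k2 k3 k4
    have k5 : φ * φ = 1 := by
      rw [k4, mul_assoc, ← mul_assoc φ, ← k2.eq, ← mul_assoc, ← mul_assoc, mul_assoc _ φ] at hxx
      exact mul_eq_left.1 hxx
    have k6 : v * x * v⁻¹ = x := by
      calc v * x * v⁻¹ = y * (y * x * y⁻¹) * y⁻¹ := by rw [ev]; group
        _ = y * x * y⁻¹ * (y * φ) * y⁻¹ := by nth_rewrite 1 [k4]; group
        _ = x * (φ * φ) := by rw [k3.eq, k4]; group
        _ = x := by rw [k5, mul_one]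
    rw [ec, commutatorElement_eq_one_iff_mul_comm]
    exact (mul_inv_eq_iff_eq_mul.1 k6).symm
  · refine finv ?_
    rw [hkl, hsq, zpow_odd cc (Int.odd_mul.2 ⟨odd_two_mul_add_one k, hl⟩)] at hxx
    -- `c x^(4k) v^(2l) = 1`, and `x^4 ∈ ⟨v⟩`
    have k1 : c = (x * x) * (v ^ l * v ^ l)⁻¹ * (x ^ (2 * k + 1) * x ^ (2 * k + 1))⁻¹ := by
      rw [← hxx]; group
    have k2 : Commute (x ^ (2 : ℤ)) (v ^ (-(l + l))) := hev _ _ (Even.mul_right even_two _)
    have k3 : c = v ^ (-(l + l)) * (x ^ (4 : ℤ)) ^ (-k) := by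
      calc c = x ^ (2 : ℤ) * v ^ (-(l + l)) * (x ^ (2 * k + 1) * x ^ (2 * k + 1))⁻¹ := by
            rw [k1, zpow_two]; group
        _ = _ := by rw [k2.eq]; group
    have k4 : x ^ (4 : ℤ) ∈ zpowers v := by
      obtain ⟨s, hs⟩ := (show Two x from hX x).mem_zpowers_odd hi
      have hs' : (x ^ i) ^ s = x := hs
      have : x ^ (4 : ℤ) = (x ^ (i * 2) * x ^ (i * 2)) ^ s := by
        nth_rewrite 1 [← hs']
        group
      rw [this, e2, mul_assoc, ← mul_assoc _ c,
        ← ((show Commute c v from hc v hv).zpow_right _).eq, ← mul_assoc, ← mul_assoc, cc, one_mul]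
      exact zpow_mem (mul_mem (zpow_mem (mem_zpowers v) _) (zpow_mem (mem_zpowers v) _)) s
    rw [k3]
    exact mul_mem (zpow_mem (mem_zpowers v) _) (zpow_mem k4 _)

theorem meta_aux (n : ℕ) : ∀ (X : Type u) [Group X] [Finite X], Nat.card X = n → IsPGroup 2 X →
    ∀ (M : Subgroup X) [M.Normal] (x y : X), x ∈ M → y * y ∈ M →
      (∀ m ∈ M, ∃ i j : ℤ, m = x ^ i * (y * y) ^ j) → IsMetacyclic M := by
  induction n using Nat.strong_induction_on with
  | _ n ih =>
  intro X _ _ hn hX M _ x y hx hv hb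
  by_cases hW : normalClosure {f | ∃ c ∈ ⁅M, M⁆, f = c * c} ⊔ ⁅⁅M, M⁆, M⁆ = ⊥
  · rw [sup_eq_bot_iff] at hW
    refine meta_class_two hX hx hv hb (fun f hf m hm => ?_) fun f hf => ?_
    · have := commutator_mem_commutator hf hm
      rw [hW.2, mem_bot] at this
      exact commutatorElement_eq_one_iff_mul_comm.1 this
    · have : f * f ∈ normalClosure {f | ∃ c ∈ ⁅M, M⁆, f = c * c} :=
        subset_normalClosure ⟨f, hf, rfl⟩
      rwa [hW.1, mem_bot] at this
  obtain ⟨w, hw, w2, hc⟩ := Local.exists_central_mem (P := ⊤) (hX.to_subgroup ⊤) le_top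
    (fun g _ a ha => Normal.conj_mem inferInstance a ha g) hW
  have hc' : ∀ g, g * w = w * g := fun g => hc g (mem_top g)
  have hN : (zpowers w).Normal := ⟨fun u hu g => by
    rw [comm_zpowers (hc' g) hu, mul_inv_cancel_right]; exact hu⟩
  have hwM : w ∈ M := by
    refine (sup_le (normalClosure_le_normal ?_) (commutator_le_right _ _) : _ ≤ M) hw
    rintro _ ⟨c, hc, rfl⟩
    exact mul_mem (commutator_le_left M M hc) (commutator_le_left M M hc)
  refine meta_lift hc' (by rw [← pow_two, ← w2, pow_orderOf_eq_one]) hw hwM ?_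
  have hMn : (M.map (QuotientGroup.mk' (zpowers w))).Normal :=
    Normal.map inferInstance _ (QuotientGroup.mk'_surjective _)
  refine ih _ ?_ (X ⧸ zpowers w) rfl (hX.to_quotient _) _ (QuotientGroup.mk' _ x)
    (QuotientGroup.mk' _ y) (mem_map_of_mem _ hx) (by rw [← map_mul]; exact mem_map_of_mem _ hv) ?_
  · rw [← hn, card_eq_card_quotient_mul_card_subgroup (zpowers w), Nat.card_zpowers, w2]
    have : 0 < Nat.card (X ⧸ zpowers w) := Nat.card_pos
    omega
  · rintro _ ⟨m, hm, rfl⟩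
    obtain ⟨i, j, rfl⟩ := hb m hm
    exact ⟨i, j, by simp only [map_mul, map_zpow]⟩

/-- In a bicyclic 2-group `⟨x⟩⟨y⟩` a subgroup of index two containing `x` but not `y` is
metacyclic. -/
theorem meta_of_index_two [Finite X] (hX : IsPGroup 2 X) (hb : ∀ g, ∃ i j : ℤ, g = x ^ i * y ^ j)
    (hM : M.index = 2) (hx : x ∈ M) : IsMetacyclic M := by
  have := normal_of_index_eq_two hM
  have hy : y ∉ M := fun hy => by
    have : M = ⊤ := eq_top_iff.2 fun g _ => by
      obtain ⟨i, j, rfl⟩ := hb g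
      exact mul_mem (zpow_mem hx i) (zpow_mem hy j)
    rw [this, index_top] at hM
    omega
  have hv : y * y ∈ M := mul_self_mem_of_index_two hM y
  refine meta_aux _ X rfl hX M x y hx hv fun m hm => ?_
  obtain ⟨i, j, rfl⟩ := hb m
  rcases Int.even_or_odd' j with ⟨k, rfl | rfl⟩
  · exact ⟨i, k, by rw [sq_zpow, two_mul, zpow_add]⟩
  · refine (hy ?_).elim
    have := mul_mem (inv_mem (mul_mem (zpow_mem hx i) (zpow_mem hv k))) hm
    convert this using 1
    rw [sq_zpow]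
    group

end Cfsg.Lib.Rank2.Bic
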