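import Cfsg.Agent.Rank2.Bicyc
import Cfsg.Agent.Fus.EssTau
import Cfsg.Agent.S1896
import Cfsg.Agent.Trans.Radical
import Cfsg.Agent.Trans.Fus
import Cfsg.Agent.Trans.IdxTwoSub
import Cfsg.Agent.Perm.QuatAut

/-!
# Groups with bicyclic Sylow 2-subgroups of rank three have a subgroup of index two
-/

set_option autoImplicit false

namespace Cfsg.Lib.Rank2.Bic

open Subgroup Cfsg.Lib.Trans Cfsg.Lib.Rank2.Std
open scoped commutatorElement

universe u

variable {X : Type u} [Group X] [Finite X] {M U E : Subgroup X} {x y : X}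

omit [Finite X] in
theorem exists_sq_mem {e : X} (h : Two e) (he : e ∉ M) :
    ∃ r ∈ zpowers e, r ∉ M ∧ r * r ∈ M := by
  obtain ⟨n, hn⟩ := h
  induction n generalizing e with
  | zero => exact (he (by rw [show e = 1 by simpa using hn]; exact one_mem _)).elim
  | succ n ih =>
    by_cases h2 : e * e ∈ M
    · exact ⟨e, mem_zpowers e, he, h2⟩
    · obtain ⟨r, hr, h⟩ := ih h2 (by rw [← pow_two, ← pow_mul, ← pow_succ', hn])
      exact ⟨r, sq_le e hr, h⟩

theorem meta_of_card {a : X} (h : Nat.card X = 2 * orderOf a) : IsMetacyclic X := by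
  have hi : (zpowers a).index = 2 := by
    have := card_mul_index (zpowers a)
    rw [Nat.card_zpowers, h, mul_comm] at this
    exact Nat.eq_of_mul_eq_mul_right (orderOf_pos a) this
  have := normal_of_index_eq_two hi
  exact ⟨zpowers a, this, inferInstance, isCyclic_of_prime_card (p := 2) hi⟩

theorem meta_of_maxClass (h : (∃ m, Nonempty (X ≃* DihedralGroup m)) ∨
    (∃ m, Nonempty (X ≃* QuaternionGroup m)) ∨ IsQuasiDihedral X) : IsMetacyclic X := by
  rcases h with ⟨m, ⟨e⟩⟩ | ⟨m, ⟨e⟩⟩ | ⟨n, -, hc, a, -, ha, -⟩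
  · refine meta_of_card (a := e.symm (DihedralGroup.r 1)) ?_
    rw [MulEquiv.orderOf_eq, DihedralGroup.orderOf_r_one, Nat.card_congr e.toEquiv,
      DihedralGroup.nat_card]
  · have : Finite (QuaternionGroup m) := Finite.of_equiv _ e.toEquiv
    have hm : m ≠ 0 := by
      rintro rfl
      have : Infinite (ZMod (2 * 0)) := ZMod.infinite
      have : Infinite (QuaternionGroup 0) :=
        Infinite.of_injective QuaternionGroup.a fun _ _ h => QuaternionGroup.a.inj h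
      exact not_finite (QuaternionGroup 0)
    refine meta_of_card (a := e.symm (QuaternionGroup.a 1)) ?_
    rw [MulEquiv.orderOf_eq, QuaternionGroup.orderOf_a_one, card_of_quaternion hm e]
    ring
  · exact meta_of_card (a := a) (by rw [hc, ha, pow_succ'])

theorem card_le_four (hm : IsMetacyclic M) (hE : ∀ e ∈ E, e * e = 1) (h : E ≤ M) :
    Nat.card E ≤ 4 :=
  FT.Metacyclic.card_le_sq_of_isMetacyclic_of_pow_eq_one (p := 2) two_pos
    (FT.Metacyclic.metacyclicS h hm) fun e => Subtype.ext (by rw [pow_two]; exact hE e e.2)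

theorem zmod_half {n : ℕ} (a : ZMod (2 ^ (n + 1))) (h : 2 ^ n • a = 0) : ∃ b, a = b + b := by
  obtain ⟨k, rfl⟩ := ZMod.natCast_zmod_surjective a
  rw [nsmul_eq_mul, ← Nat.cast_mul, ZMod.natCast_eq_zero_iff, pow_succ] at h
  obtain ⟨j, rfl⟩ := Nat.dvd_of_mul_dvd_mul_left (by positivity) h
  exact ⟨j, by push_cast; ring⟩

omit [Finite X] in
theorem homocyclic_sq {n : ℕ}
    (e : U ≃* Multiplicative (ZMod (2 ^ (n + 1))) × Multiplicative (ZMod (2 ^ (n + 1))))
    {u : X} (hu : u ∈ U) (h : u ^ 2 ^ n = 1) : ∃ w ∈ U, u = w * w := by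
  have h1 : e ⟨u, hu⟩ ^ 2 ^ n = 1 := by
    rw [← map_pow, show (⟨u, hu⟩ : U) ^ 2 ^ n = 1 from Subtype.ext h, map_one]
  obtain ⟨b, hb⟩ := zmod_half (Multiplicative.toAdd (e ⟨u, hu⟩).1) (congrArg Prod.fst h1)
  obtain ⟨c, hc⟩ := zmod_half (Multiplicative.toAdd (e ⟨u, hu⟩).2) (congrArg Prod.snd h1)
  refine ⟨e.symm (Multiplicative.ofAdd b, Multiplicative.ofAdd c), Subtype.prop _, ?_⟩
  have : (⟨u, hu⟩ : U) = e.symm (Multiplicative.ofAdd b, Multiplicative.ofAdd c) *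
      e.symm (Multiplicative.ofAdd b, Multiplicative.ofAdd c) := by
    rw [← map_mul, MulEquiv.eq_symm_apply]
    exact Prod.ext hb hc
  exact congrArg Subtype.val this

/-- A radical subgroup of a metacyclic maximal subgroup. -/
theorem radical_cases (hX : IsPGroup 2 X) (hnm : ¬ IsMetacyclic X) (hM : M.index = 2)
    (hm : IsMetacyclic M) (hUM : U ≤ M) (hC : centralizer (U : Set X) ≤ U)
    (hA : ¬ IsPGroup 2 (MulAut U))
    (hrad : (∀ a ∈ U, ∀ b ∈ U, a * b = b * a) → ∀ s ∈ normalizer (U : Set X),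
      (∀ u ∈ U, ∃ w ∈ U, u⁻¹ * (s * u * s⁻¹) = w * w) → s ∈ U) :
    U = M ∧ ∃ n, Nonempty (U ≃* Multiplicative (ZMod (2 ^ (n + 1))) ×
      Multiplicative (ZMod (2 ^ (n + 1)))) := by
  have hU : U ≠ ⊤ := by
    rintro rfl
    rw [top_le_iff.1 hUM, index_top] at hM
    omega
  rcases Cfsg.Agent.S1896.result (hX.to_subgroup U) (FT.Metacyclic.metacyclicS hUM hm) hA with
    ⟨⟨e⟩⟩ | ⟨n, ⟨e⟩⟩
  · exact (hnm (meta_of_maxClass (Fus.Ess.two_maxClass_of_selfCent hX hU (Or.inr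
      ⟨card_of_quaternion two_ne_zero e, not_isMulCommutative_of_quaternion le_rfl e⟩) hC))).elim
  have hc : ∀ a ∈ U, ∀ b ∈ U, a * b = b * a := fun a ha b hb =>
    congrArg Subtype.val (e.injective (a₁ := ⟨a, ha⟩ * ⟨b, hb⟩) (a₂ := ⟨b, hb⟩ * ⟨a, ha⟩)
      (by rw [map_mul, map_mul, mul_comm]))
  have hcard : Nat.card U = 2 ^ n * 2 ^ n := by
    rw [Nat.card_congr e.toEquiv, Nat.card_prod, Nat.card_congr Multiplicative.toAdd, Nat.card_zmod]
  rcases n with _ | n
  · have : U = ⊥ := by simpa using hcard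
    subst this
    exact (hU (eq_top_iff.2 ((by simp : (⊤ : Subgroup X) ≤ centralizer _).trans hC))).elim
  refine ⟨?_, n, ⟨e⟩⟩
  by_contra hne
  obtain ⟨s', ⟨hs'M, hs'N⟩, hs'U⟩ := SetLike.exists_of_lt
    (lt_inf_normalizer (hX.to_subgroup M) (lt_of_le_of_ne hUM hne))
  obtain ⟨s, hs, hsU, hs2⟩ := exists_sq_mem (hX s') hs'U
  have hsN : s ∈ normalizer (U : Set X) := zpowers_le.2 hs'N hs
  obtain ⟨u, hu, h1⟩ : ∃ u ∈ U, ∀ w ∈ U, u⁻¹ * (s * u * s⁻¹) ≠ w * w := by
    by_contra h1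
    push Not at h1
    exact hsU (hrad hc s hsN h1)
  have hH : U ⊔ zpowers s ≤ M := sup_le hUM (zpowers_le.2 (zpowers_le.2 hs'M hs))
  have e1 : u⁻¹ * (s * u * s⁻¹) = ⁅u⁻¹, s⁆ := by rw [commutatorElement_def]; group
  rcases Fus.Ess.comm_pow_of_isMetacyclic (hX.to_subgroup _) (FT.Metacyclic.metacyclicS hH hm)
    (R := U.subgroupOf _) (fun a ha b hb => Subtype.ext (hc a ha b hb)) (by
      have := card_mul_index (U.subgroupOf (U ⊔ zpowers s))
      rw [Solv.PG.card_sup_zpowers Nat.prime_two hsN hsU (by rwa [pow_two]),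
        Nat.card_congr (subgroupOfEquivOfLe le_sup_left).toEquiv, mul_comm] at this
      exact Nat.eq_of_mul_eq_mul_right Nat.card_pos this)
    ⟨u⁻¹, mem_sup_left (inv_mem hu)⟩ ⟨s, mem_sup_right (mem_zpowers s)⟩ with ⟨r, hr, h3⟩ | h3
  · exact h1 r hr (by rw [e1, ← pow_two]; exact congrArg Subtype.val h3)
  · have h4 : (u⁻¹ * (s * u * s⁻¹)) ^ 2 = 1 := by rw [e1]; exact congrArg Subtype.val h3
    rcases n with _ | n
    · exact hnm (meta_of_maxClass (Fus.Ess.two_maxClass_of_selfCent hX hU (Or.inl hcard) hC))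
    · obtain ⟨w, hw, h5⟩ := homocyclic_sq e (mul_mem (inv_mem hu) (mem_normalizer_conj hsN hu))
        (by rw [pow_succ', pow_mul, h4, one_pow])
      exact h1 w hw h5

theorem not_radical (hX : IsPGroup 2 X) (hE : ∀ e ∈ E, e * e = 1) (hE4 : 4 < Nat.card E)
    (hM : M.index = 2) (hm : IsMetacyclic M) (hUM : U ≤ M) (hC : centralizer (U : Set X) ≤ U)
    (hA : ¬ IsPGroup 2 (MulAut U))
    (hrad : (∀ a ∈ U, ∀ b ∈ U, a * b = b * a) → ∀ s ∈ normalizer (U : Set X),
      (∀ u ∈ U, ∃ w ∈ U, u⁻¹ * (s * u * s⁻¹) = w * w) → s ∈ U) : False := by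
  have hnm : ¬ IsMetacyclic X := fun h =>
    absurd (card_le_four (Solv.Meta.subgroup h ⊤) hE le_top) (not_le.2 hE4)
  obtain ⟨rfl, n, ⟨e⟩⟩ := radical_cases hX hnm hM hm hUM hC hA hrad
  have := normal_of_index_eq_two hM
  have hc : ∀ a ∈ U, ∀ b ∈ U, a * b = b * a := fun a ha b hb =>
    congrArg Subtype.val (e.injective (a₁ := ⟨a, ha⟩ * ⟨b, hb⟩) (a₂ := ⟨b, hb⟩ * ⟨a, ha⟩)
      (by rw [map_mul, map_mul, mul_comm]))
  have hp : ∀ u ∈ U, u ^ 2 ^ n * u ^ 2 ^ n = 1 := fun u hu => by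
    have : (⟨u, hu⟩ : U) ^ 2 ^ (n + 1) = 1 := by
      apply e.injective
      rw [map_pow, map_one]
      ext <;> simp [← Nat.cast_smul_eq_nsmul (ZMod (2 ^ (n + 1))), -Nat.cast_pow]
    rw [← pow_add, ← two_mul, ← pow_succ']
    exact congrArg Subtype.val this
  obtain ⟨s, hs, hsU⟩ : ∃ s ∈ E, s ∉ U := by
    by_contra h
    push Not at h
    exact absurd (card_le_four hm hE h) (not_le.2 hE4)
  let W : Subgroup X :=
    { carrier := {u | u ∈ U ∧ u * u = 1}
      one_mem' := ⟨one_mem _, one_mul 1⟩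
      inv_mem' := fun h => ⟨inv_mem h.1, by rw [← mul_inv_rev, h.2, inv_one]⟩
      mul_mem' := fun {a b} ha hb => ⟨mul_mem ha.1 hb.1, by
        rw [mul_assoc, ← mul_assoc b, ← hc a ha.1 b hb.1, mul_assoc, hb.2, mul_one, ha.2]⟩ }
  have hW : U ⊓ E = W := by
    refine eq_of_le_of_card_ge (fun u hu => ⟨hu.1, hE u hu.2⟩) ?_
    have h1 : Nat.card W ≤ 4 := card_le_four hm (fun _ h => h.2) fun _ h => h.1
    have h2 := card_mul_relIndex (inf_le_right : U ⊓ E ≤ E)
    have h3 : (U ⊓ E).relIndex E ≤ 2 := by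
      rw [inf_relIndex_right, ← hM]
      exact Nat.le_of_dvd (by omega) (relIndex_dvd_index_of_normal U E)
    obtain ⟨k, hk⟩ := IsPGroup.iff_card.1 (hX.to_subgroup (U ⊓ E))
    have h4 : 2 < Nat.card (U ⊓ E : Subgroup X) := by nlinarith
    rw [hk] at h4 ⊢
    have h5 : 1 < k := (Nat.pow_lt_pow_iff_right one_lt_two).1 h4
    exact h1.trans (Nat.pow_le_pow_right two_pos h5)
  refine hsU (hrad hc s (by rw [normalizer_eq_top]; exact mem_top s) fun u hu => ?_)
  have hsu : s * u * s⁻¹ ∈ U := this.conj_mem u hu s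
  refine homocyclic_sq e (mul_mem (inv_mem hu) hsu) ?_
  have h1 : u ^ 2 ^ n ∈ U ⊓ E := hW ▸ ⟨pow_mem hu _, hp u hu⟩
  have h2 : s * u ^ 2 ^ n = u ^ 2 ^ n * s := by
    have h3 := hE _ (mul_mem hs h1.2)
    calc s * u ^ 2 ^ n = (s * u ^ 2 ^ n)⁻¹ := (inv_eq_self h3).symm
      _ = _ := by rw [mul_inv_rev, inv_eq_self (hE s hs), inv_eq_self (hE _ h1.2)]
  rw [(show Commute u⁻¹ (s * u * s⁻¹) from hc _ (inv_mem hu) _ hsu).mul_pow, conj_pow, h2]
  group

theorem exists_index_two (hX : IsPGroup 2 X) (hU : U ≠ ⊤) : ∃ M : Subgroup X, M.index = 2 ∧ U ≤ M := by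
  obtain ⟨M, hM, h⟩ := (eq_top_or_exists_le_coatom U).resolve_left hU
  exact ⟨M, Solv.index_eq_of_isCoatom_of_isPGroup hX hM, h⟩

omit [Finite X] in
theorem bicyclic_symm (hb : ∀ g, ∃ i j : ℤ, g = x ^ i * y ^ j) (g : X) :
    ∃ i j : ℤ, g = y ^ i * x ^ j := by
  obtain ⟨i, j, h⟩ := hb g⁻¹
  exact ⟨-j, -i, by rw [← inv_inv g, h]; group⟩

omit [Finite X] in
theorem zpow_mem_iff (hM : M.index = 2) (hx : x ∉ M) (i : ℤ) : x ^ i ∈ M ↔ Even i := by
  have h2 := mul_self_mem_of_index_two hM x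
  rcases Int.even_or_odd' i with ⟨k, rfl | rfl⟩
  · refine iff_of_true ?_ (even_two_mul k)
    rw [two_mul, zpow_add, ← sq_zpow]
    exact zpow_mem h2 k
  · refine iff_of_false (fun h => hx ?_) (Int.not_even_iff_odd.2 (odd_two_mul_add_one k))
    have := mul_mem (inv_mem (zpow_mem h2 k)) h
    convert this using 1
    rw [sq_zpow]
    group

/-- A bicyclic 2-group has at most one non-metacyclic maximal subgroup. -/
theorem eq_of_not_meta (hX : IsPGroup 2 X) (hb : ∀ g, ∃ i j : ℤ, g = x ^ i * y ^ j)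
    {N : Subgroup X} (hM : M.index = 2) (hN : N.index = 2) (h1 : ¬ IsMetacyclic M)
    (h2 : ¬ IsMetacyclic N) : M = N := by
  have k1 : ∀ {M : Subgroup X}, M.index = 2 → ¬ IsMetacyclic M → x ∉ M ∧ y ∉ M :=
    fun hM h => ⟨fun hx => h (meta_of_index_two hX hb hM hx),
      fun hy => h (meta_of_index_two hX (bicyclic_symm hb) hM hy)⟩
  ext g
  obtain ⟨i, j, rfl⟩ := hb g
  rw [mul_mem_iff_of_index_two hM, mul_mem_iff_of_index_two hN, zpow_mem_iff hM (k1 hM h1).1,
    zpow_mem_iff hM (k1 hM h1).2, zpow_mem_iff hN (k1 hN h2).1, zpow_mem_iff hN (k1 hN h2).2]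

theorem card_le_of_bicyclic (hb : ∀ g, ∃ i j : ℤ, g = x ^ i * y ^ j) :
    Nat.card X ≤ orderOf x * orderOf y := by
  rw [← Nat.card_zpowers, ← Nat.card_zpowers, ← Nat.card_prod]
  refine Nat.card_le_card_of_surjective (fun p : zpowers x × zpowers y => (p.1 : X) * p.2) fun g => ?_
  obtain ⟨i, j, rfl⟩ := hb g
  exact ⟨(⟨_, i, rfl⟩, ⟨_, j, rfl⟩), rfl⟩

section Grp
variable {G : Type u} [Group G] [Finite G] {S : Subgroup G}

/-- The radical condition for an abelian subgroup, read modulo squares. -/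
theorem mem_of_radicalIn (hS : IsPGroup 2 S) {V : Subgroup G} (hV : V ≤ S)
    (hr : RadicalIn 2 S ⊤ V) (hc : ∀ a ∈ V, ∀ b ∈ V, a * b = b * a) {s : G} (hs : s ∈ S)
    (hsN : s ∈ normalizer (V : Set G)) (h : ∀ u ∈ V, ∃ w ∈ V, u⁻¹ * (s * u * s⁻¹) = w * w) :
    s ∈ V := by
  let P : ℕ → Subgroup G := fun i =>
    { carrier := {g | ∃ u ∈ V, g = u ^ 2 ^ i}
      one_mem' := ⟨1, one_mem _, (one_pow _).symm⟩
      inv_mem' := by
        rintro _ ⟨u, hu, rfl⟩
        exact ⟨u⁻¹, inv_mem hu, (inv_pow _ _).symm⟩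
      mul_mem' := by
        rintro _ _ ⟨a, ha, rfl⟩ ⟨b, hb, rfl⟩
        exact ⟨a * b, mul_mem ha hb, ((show Commute a b from hc a ha b hb).mul_pow _).symm⟩ }
  have hP : ∀ i, P i ≤ V := by
    rintro i _ ⟨u, hu, rfl⟩
    exact pow_mem hu _
  have hN : ∀ i, ⊤ ⊓ normalizer (V : Set G) ≤ normalizer (P i : Set G) := fun i g hg =>
    mem_normalizer_of_cj_le (cj_le_iff.2 (by
      rintro _ ⟨u, hu, rfl⟩
      exact ⟨_, mem_normalizer_conj hg.2 hu, conj_pow.symm⟩))
  obtain ⟨n, hn⟩ := IsPGroup.iff_card.1 (hS.to_le hV)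
  refine hr (chainStab _ P hN) (fun g hg => hg.1) (le_normalizer_chainStab _ P hN)
    (fun g hg ho => ?_) ⟨hs, ⟨mem_top s, hsN⟩, ?_⟩
  · have := mem_centralizer_of_coprime_of_desc_chain P (fun i => hS.to_le ((hP i).trans hV))
      (n := n) (eq_bot_iff.2 (by
        rintro _ ⟨u, hu, rfl⟩
        have := congrArg Subtype.val (pow_card_eq_one' (x := (⟨u, hu⟩ : V)))
        rwa [hn] at this)) ho hg.2
    exact centralizer_le (fun u hu => (⟨u, hu, by simp⟩ : u ∈ P 0)) this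
  · rintro i _ ⟨u, hu, rfl⟩
    obtain ⟨w, hw, e⟩ := h u hu
    refine ⟨w, hw, ?_⟩
    rw [← conj_pow, ← inv_pow, ← (show Commute u⁻¹ (s * u * s⁻¹) from
      hc _ (inv_mem hu) _ (mem_normalizer_conj hsN hu)).mul_pow, e, ← pow_two, ← pow_mul, ← pow_succ']

theorem exists_index_two_of_bicyclic (hS : IsSylowIn 2 S ⊤) {x y : S}
    (hb : ∀ g, ∃ i j : ℤ, g = x ^ i * y ^ j) {E : Subgroup S} (hE : ∀ e ∈ E, e * e = 1)
    (hE4 : 4 < Nat.card E) : ¬ S ≤ commutator G := by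
  intro hG
  have hX := hS.isPGroup
  have hEt : E ≠ ⊤ := by
    rintro rfl
    have h1 := card_le_of_bicyclic hb
    have h2 : ∀ g : S, orderOf g ≤ 2 := fun g =>
      orderOf_le_of_pow_eq_one two_pos (by rw [pow_two]; exact hE g (mem_top g))
    rw [card_top] at hE4
    nlinarith [h2 x, h2 y]
  obtain ⟨M, hM, hEM⟩ := exists_index_two hX hEt
  have hnm : ¬ IsMetacyclic M := fun h => absurd (card_le_four h hE hEM) (not_le.2 hE4)
  have key := alperin_radical hS
    (fun A g => ∀ u ∈ A, u ∈ M.map S.subtype ↔ g * u * g⁻¹ ∈ M.map S.subtype)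
    (fun A B g hAB h u hu => h u (hAB hu))
    (fun A g k h1 h2 u hu => by
      rw [h1 u hu, h2 _ (conj_mem_cj.2 hu)]
      exact iff_of_eq (by congr 1; group))
    (fun A c _ hc u hu => by rw [conj_eq_of_mem_centralizer hc hu]) (by
      intro U hU _ hr _ n hn u hu
      by_cases hUM : U ≤ M.map S.subtype
      · exact iff_of_true (hUM hu) (hUM (mem_normalizer_conj hn.2 hu))
      by_cases hUS : U = S
      · subst hUS
        let φ := U.normalizerMonoidHom ⟨n, hn.2⟩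
        have h1 : M.comap φ.toMonoidHom = M := by
          refine eq_of_not_meta hX hb ((index_comap_of_surjective _ φ.surjective).trans hM) hM
            (fun h => hnm ?_) hnm
          refine Solv.Meta.of_surjective h (φ.toMonoidHom.subgroupComap M) fun m => ?_
          exact ⟨⟨φ.symm m, by simp⟩, Subtype.ext (φ.apply_symm_apply m)⟩
        have h2 : ∀ w : U, (w : G) ∈ M.map U.subtype ↔ w ∈ M := fun w =>
          mem_map_iff_mem U.subtype_injective
        rw [h2 ⟨u, hu⟩, h2 ⟨_, mem_normalizer_conj hn.2 hu⟩, ← h1, mem_comap, h1]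
        rfl
      exfalso
      obtain ⟨N, hN, hUN⟩ := exists_index_two hX (U := U.subgroupOf S)
        fun h => hUS (le_antisymm hU (subgroupOf_eq_top.1 h))
      have hNm : IsMetacyclic N := by
        by_contra h
        rw [eq_of_not_meta hX hb hN hM h hnm] at hUN
        exact hUM fun u hu => ⟨⟨u, hU hu⟩, hUN hu, rfl⟩
      refine not_radical hX hE hE4 hN hNm hUN (fun s hs => ?_) (fun hA => ?_) fun hc s hs h => ?_
      · exact hr.inf_centralizer_le le_top ⟨s.2, mem_centralizer_iff.2 fun u hu =>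
          congrArg Subtype.val (mem_centralizer_iff.1 hs ⟨u, hU hu⟩ hu)⟩
      · have hA' : IsPGroup 2 (MulAut U) :=
          hA.of_equiv (MulAut.congr (subgroupOfEquivOfLe hU))
        have := hr _ le_rfl le_normalizer fun g hg ho =>
          Perm.mem_centralizer_of_isPGroup_mulAut hA' hg.2 ho
        exact absurd (lt_inf_normalizer hX (lt_of_le_of_ne hU hUS))
          (not_lt_of_ge (by rwa [top_inf_eq] at this))
      · refine mem_of_radicalIn hX hU hr
          (fun a ha b hb => congrArg Subtype.val (hc ⟨a, hU ha⟩ ha ⟨b, hU hb⟩ hb)) s.2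
          (mem_normalizer_of_cj_le (cj_le_iff.2 fun u hu =>
            mem_normalizer_conj hs (x := ⟨u, hU hu⟩) hu)) fun u hu => ?_
        obtain ⟨w, hw, e⟩ := h ⟨u, hU hu⟩ hu
        exact ⟨w, hw, congrArg Subtype.val e⟩)
  have h1 := hS.inf_commutator_le (F := M.map S.subtype) fun b hb g _ hg => by
    have h2 := key (zpowers b) (zpowers_le.2 hb) g (mem_top g)
      (by rw [cj_zpowers]; exact zpowers_le.2 hg) b (mem_zpowers b)
    have h3 : ∀ w : S, (w : G) ∈ M.map S.subtype ↔ w ∈ M := fun w =>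
      mem_map_iff_mem S.subtype_injective
    rw [h3 ⟨b, hb⟩, h3 ⟨_, hg⟩] at h2
    exact (h3 ((⟨b, hb⟩ : S)⁻¹ * ⟨_, hg⟩)).2
      ((mul_mem_iff_of_index_two hM).2 (by rw [inv_mem_iff]; exact h2))
  have h2 : M = ⊤ := eq_top_iff.2 fun w _ =>
    (mem_map_iff_mem S.subtype_injective).1 (h1 ⟨w.2, hG w.2⟩)
  rw [h2, index_top] at hM
  omega

end Grp

end Cfsg.Lib.Rank2.Bic
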