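import Mathlib.RingTheory.Coprime.Lemmas
import Mathlib.Data.Nat.Prime.Int
import Mathlib.Algebra.Order.Ring.Int
import Mathlib.RingTheory.PrincipalIdealDomain
import Mathlib.Tactic

/-!
# The degree equation of the quasi-dihedral principal block has a small solution
-/

set_option autoImplicit false

namespace Cfsg.Lib.Rank2

theorem ff_num_le {p n : ℕ} (hp : p.Prime) (hp2 : p ≠ 2) {a b c d : ℤ} (ha : 0 < a) (hb : 0 < b)
    (hd : d = 1 ∨ d = 2) (hab : b = a + d) (h : a * b = c * (p ^ n) ^ 2) : ((p : ℤ) ^ n) ^ 2 ≤ b := by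
  have hp' := Nat.prime_iff_prime_int.1 hp
  rw [← pow_mul] at h ⊢
  by_cases h1 : (p : ℤ) ∣ a
  · have h2 : ¬ (p : ℤ) ∣ b := fun h2 => by
      have h3 : (p : ℤ) ∣ 2 := by
        have := dvd_sub h2 h1
        rw [hab, add_sub_cancel_left] at this
        rcases hd with rfl | rfl
        · exact this.trans (one_dvd _)
        · exact this
      exact hp2 ((Nat.prime_dvd_prime_iff_eq hp Nat.prime_two).1 (by exact_mod_cast h3))
    have := Int.le_of_dvd ha (hp'.pow_dvd_of_dvd_mul_right _ h2 (h ▸ dvd_mul_left _ c))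
    omega
  · exact Int.le_of_dvd hb (hp'.pow_dvd_of_dvd_mul_left _ h1 (h ▸ dvd_mul_left _ c))

theorem ff_num_aux {p n : ℕ} (hp : p.Prime) (hp2 : p ≠ 2) {q m : ℤ} (hq : q = p ^ n) (h3 : 3 ≤ q)
    (h1 : (q - 1) ^ 2 ≤ m) (h2 : m < q ^ 2) (hd : m ∣ q ^ 2 * (q ^ 2 - 1)) :
    m = q ^ 2 - 1 ∨ m = q ^ 2 - q ∨ q = 3 ∧ m = 4 := by
  obtain ⟨j, rfl⟩ : ∃ j, m = q ^ 2 - j := ⟨q ^ 2 - m, by ring⟩
  have hj0 : 0 < j := by linarith
  have hj : j ≤ 2 * q - 1 := by nlinarith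
  obtain ⟨c, hc⟩ : q ^ 2 - j ∣ j * (j - 1) := by
    have := dvd_sub hd (dvd_mul_right (q ^ 2 - j) (q ^ 2 + j - 1))
    rwa [show q ^ 2 * (q ^ 2 - 1) - (q ^ 2 - j) * (q ^ 2 + j - 1) = j * (j - 1) by ring] at this
  have hm : 0 < q ^ 2 - j := by nlinarith
  have hc0 : 0 ≤ c := by
    by_contra h
    nlinarith
  have hjj : j * (j - 1) ≤ (2 * q - 1) * (2 * q - 2) := by nlinarith
  have hc5 : c ≤ 5 := by
    by_contra h
    have : (q - 1) ^ 2 * 6 ≤ (q ^ 2 - j) * c := by nlinarith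
    nlinarith
  interval_cases c
  · left
    have : j = 1 := by nlinarith
    rw [this]
  · right; left
    have : j = q := by nlinarith
    rw [this]
  · have := ff_num_le (n := n) hp hp2 hj0 (b := j + 1) (c := 2) (by linarith) (.inl rfl) rfl
      (by rw [← hq]; linarith)
    rw [← hq] at this
    nlinarith
  · have := ff_num_le (n := n) hp hp2 hj0 (b := j + 2) (c := 3) (by linarith) (.inr rfl) rfl
      (by rw [← hq]; linarith)
    rw [← hq] at this
    nlinarith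
  · have h4 : 2 * q < j + 2 := by nlinarith
    obtain rfl : j = 2 * q - 1 := by omega
    nlinarith
  · have h4 : q = 3 := by nlinarith
    subst h4
    have : j = 5 := by interval_cases j <;> omega
    omega

theorem ff_num {p n : ℕ} (hp : p.Prime) (hn : n ≠ 0) {q : ℕ} (hq : q = p ^ n) {Q f g : ℤ}
    (hQ : Q = q ∨ Q = -q) (h4 : 4 ∣ Q - 1) (h8 : 8 ∣ f - Q)
    (hg : g * (f + Q ^ 2) = Q ^ 2 * (1 + f)) :
    (f < 0 ∧ 2 * (q : ℤ) - 2 * q ^ 2 ≤ f) ∨ (1 < g ∧ g ≤ 2 * (q : ℤ) ^ 2 - 2 * q + 2) := by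
  have hq1 : 1 < q := hq ▸ Nat.one_lt_pow hn hp.one_lt
  have hp2 : p ≠ 2 := by
    rintro rfl
    have : 2 ∣ q := hq ▸ dvd_pow_self 2 hn
    omega
  have h3 : (3 : ℤ) ≤ q := by omega
  have hq' : (q : ℤ) = p ^ n := by exact_mod_cast hq
  have hQ2 : Q ^ 2 = (q : ℤ) ^ 2 := by rcases hQ with rfl | rfl <;> ring
  have h8' : 8 ∣ (q : ℤ) ^ 2 - 1 := by
    obtain ⟨t, ht⟩ := h4
    exact ⟨2 * t ^ 2 + t, by rw [← hQ2, show Q = 4 * t + 1 by linarith]; ring⟩
  rw [hQ2] at hg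
  generalize (q : ℤ) = r at *
  have hk : (f + r ^ 2) * (r ^ 2 - g) = r ^ 2 * (r ^ 2 - 1) := by linarith
  have hr : 9 ≤ r ^ 2 := by nlinarith
  have hpos : 0 < r ^ 2 * (r ^ 2 - 1) := by nlinarith
  rcases pos_and_pos_or_neg_and_neg_of_mul_pos (hk ▸ hpos) with ⟨h1, h2⟩ | ⟨h1, h2⟩
  · by_cases hf : f < 0
    · exact .inl ⟨hf, by nlinarith⟩
    · have hf0 : 0 < f := by omega
      refine .inr ⟨?_, by nlinarith⟩
      by_contra h
      nlinarith
  · by_contra h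
    push Not at h
    have ha := h.1 (by linarith)
    have hb := h.2 (by linarith)
    by_cases hlt : -(f + r ^ 2) < r ^ 2
    · rcases ff_num_aux hp hp2 hq' h3 (by linarith) hlt ⟨g - r ^ 2, by linarith⟩ with
        h5 | h5 | ⟨h5, h6⟩ <;> omega
    · rcases ff_num_aux hp hp2 hq' h3 (m := g - r ^ 2) (by linarith) (by nlinarith)
        ⟨-(f + r ^ 2), by linarith⟩ with h5 | h5 | ⟨h5, h6⟩
      · have : -(f + r ^ 2) = r ^ 2 := mul_right_cancel₀ (b := r ^ 2 - 1) (by linarith)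
          (by rw [← hk, ← h5]; ring)
        omega
      · have : -(f + r ^ 2) = r ^ 2 + r := mul_right_cancel₀ (b := r ^ 2 - r) (by nlinarith)
          (by rw [show (r ^ 2 + r) * (r ^ 2 - r) = r ^ 2 * (r ^ 2 - 1) by ring, ← hk, ← h5]; ring)
        omega
      · subst h5
        omega

end Cfsg.Lib.Rank2
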