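import Cfsg.Agent.Rank2.LyonsChk

/-! The certificate for the finite part of Lyons' theorem (generated data, checked by the kernel). -/

set_option autoImplicit false

namespace Cfsg.Lib.Rank2.Ly2

open Ly

def t0 : Ty := ⟨4, 1, -3, 0, 16, 80, 77, 115⟩
def t1 : Ty := ⟨4, 1, 1, 0, 16, 80, 65, 127⟩
def t2 : Ty := ⟨4, 0, 0, 4, 16, 80, 116, 76⟩
def t3 : Ty := ⟨4, 1, 1, -4, 64, 64, 77, 115⟩
def t4 : Ty := ⟨4, 1, -3, 4, 64, 32, 65, 127⟩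
def t5 : Ty := ⟨4, 0, 4, 0, 64, 32, 116, 76⟩
def t6 : Ty := ⟨4, 1, 1, 4, 64, 32, 117, 139⟩
def t7 : Ty := ⟨4, 0, 0, 0, 64, 32, 64, 64⟩
def t8 : Ty := ⟨4, 1, -3, 0, 144, 16, 77, 115⟩
def t9 : Ty := ⟨4, 1, 1, 0, 144, 16, 65, 127⟩
def t10 : Ty := ⟨4, 0, 0, 4, 144, 16, 116, 76⟩
def t11 : Ty := ⟨4, 3, 3, 0, 16, 16, 67, 253⟩
def t12 : Ty := ⟨4, 1, 5, 8, 16, 16, 93, 163⟩
def t13 : Ty := ⟨4, 1, 5, -8, 16, 16, 77, 115⟩
def t14 : Ty := ⟨4, 3, -1, 0, 16, 16, 79, 241⟩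
def t15 : Ty := ⟨4, 0, 0, 12, 16, 16, 92, 100⟩
def t16 : Ty := ⟨4, 1, 5, 0, 16, 16, 117, 139⟩
def t17 : Ty := ⟨4, 1, -3, 8, 16, 16, 117, 139⟩
def t18 : Ty := ⟨4, 1, -3, -8, 16, 16, 101, 91⟩
def t19 : Ty := ⟨4, 2, 2, 4, 16, 16, 118, 202⟩
def t20 : Ty := ⟨4, 2, 2, -4, 16, 16, 78, 178⟩
def t21 : Ty := ⟨4, 2, -2, 4, 16, 16, 66, 190⟩
def t22 : Ty := ⟨4, 2, -2, -4, 16, 16, 90, 166⟩
def t23 : Ty := ⟨4, 1, 1, 8, 16, 16, 105, 151⟩
def t24 : Ty := ⟨4, 1, 1, -8, 16, 16, 89, 103⟩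
def t25 : Ty := ⟨4, 0, 4, 4, 16, 16, 104, 88⟩
def t26 : Ty := ⟨4, 0, 4, -4, 16, 16, 64, 64⟩
def t27 : Ty := ⟨4, 1, -3, 0, 16, 16, 77, 115⟩
def t28 : Ty := ⟨4, 1, 1, 0, 16, 16, 65, 127⟩
def t29 : Ty := ⟨4, 0, 0, 4, 16, 16, 116, 76⟩
def t30 : Ty := ⟨4, 1, -3, 4, 0, 64, 65, 127⟩
def t31 : Ty := ⟨4, 0, 4, 0, 0, 64, 116, 76⟩
def t32 : Ty := ⟨4, 1, 1, 4, 0, 64, 117, 139⟩
def t33 : Ty := ⟨4, 0, 0, 0, 0, 64, 64, 64⟩
def t34 : Ty := ⟨4, 3, -1, 4, 0, 32, 67, 253⟩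
def t35 : Ty := ⟨4, 1, 1, 12, 0, 32, 93, 163⟩
def t36 : Ty := ⟨4, 1, 5, -4, 0, 32, 65, 127⟩
def t37 : Ty := ⟨4, 0, 4, 8, 0, 32, 92, 100⟩
def t38 : Ty := ⟨4, 0, 4, -8, 0, 32, 76, 116⟩
def t39 : Ty := ⟨4, 2, 2, 0, 0, 32, 66, 190⟩
def t40 : Ty := ⟨4, 2, -2, 0, 0, 32, 78, 178⟩
def t41 : Ty := ⟨4, 1, -3, -4, 0, 32, 89, 103⟩
def t42 : Ty := ⟨4, 0, 0, 8, 0, 32, 104, 88⟩
def t43 : Ty := ⟨4, 1, 1, -4, 0, 32, 77, 115⟩
def t44 : Ty := ⟨2, 3, -1, 4, 64, 0, 67, 253⟩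
def t45 : Ty := ⟨2, 1, 1, 12, 64, 0, 93, 163⟩
def t46 : Ty := ⟨2, 1, 5, -4, 64, 0, 65, 127⟩
def t47 : Ty := ⟨2, 0, 4, 8, 64, 0, 92, 100⟩
def t48 : Ty := ⟨2, 0, 4, -8, 64, 0, 76, 116⟩
def t49 : Ty := ⟨2, 2, 2, 0, 64, 0, 66, 190⟩
def t50 : Ty := ⟨2, 2, -2, 0, 64, 0, 78, 178⟩
def t51 : Ty := ⟨2, 1, -3, -4, 64, 0, 89, 103⟩
def t52 : Ty := ⟨2, 0, 0, 8, 64, 0, 104, 88⟩
def t53 : Ty := ⟨2, 1, 1, -4, 64, 0, 77, 115⟩
def t54 : Ty := ⟨1, 1, -7, 4, 0, 0, 77, 115⟩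
def t55 : Ty := ⟨1, 3, 3, -4, 0, 0, 79, 241⟩
def t56 : Ty := ⟨1, 1, -3, -12, 0, 0, 49, 79⟩
def t57 : Ty := ⟨1, 3, -1, -4, 0, 0, 91, 229⟩
def t58 : Ty := ⟨1, 1, 1, -12, 0, 0, 101, 91⟩
def t59 : Ty := ⟨1, 2, 2, 8, 0, 0, 106, 214⟩
def t60 : Ty := ⟨1, 2, 2, -8, 0, 0, 90, 166⟩
def t61 : Ty := ⟨1, 2, -2, 8, 0, 0, 118, 202⟩
def t62 : Ty := ⟨1, 2, -2, -8, 0, 0, 102, 154⟩
def t63 : Ty := ⟨1, 1, 5, 4, 0, 0, 105, 151⟩
def t64 : Ty := ⟨1, 1, -3, 4, 0, 0, 65, 127⟩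
def t65 : Ty := ⟨1, 0, 4, 0, 0, 0, 116, 76⟩
def t66 : Ty := ⟨1, 1, 1, 4, 0, 0, 117, 139⟩
def tyA : List Ty := [t0, t1, t2, t3, t4, t5, t6, t7, t8, t9, t10, t11, t12, t13, t14, t15, t16, t17, t18, t19, t20, t21, t22, t23, t24, t25, t26, t27, t28, t29, t30, t31, t32, t33, t34, t35, t36, t37, t38, t39, t40, t41, t42, t43]
def tyB : List Ty := [t44, t45, t46, t47, t48, t49, t50, t51, t52, t53]
def tyC : List Ty := [t54, t55, t56, t57, t58, t59, t60, t61, t62, t63, t64, t65, t66]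
def s0 : List Ty × Tr := ([t66, t66, t66, t66, t66, t66, t65, t65, t64, t62, t53, t53, t33],
  (.leaf 0 0 0 0 2 0))
def s1 : List Ty × Tr := ([t66, t66, t66, t66, t64, t64, t63, t62, t53, t53, t33],
  (.leaf 0 0 0 (-64) 8 0))
def s2 : List Ty × Tr := ([t66, t66, t65, t63, t62, t61, t53, t53, t33],
  (.br 4
   (.leaf 0 0 0 (-16) 2 0)
   (.br 3
    (.br 5
     (.leaf 0 0 0 (-32) 4 0)
     (.br 2
      (.leaf 1 (-1) 0 (-32) 32 0)
      (.br 0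
       (.leaf 0 0 0 (-256) 32 0)
       (.br 1
        (.leaf 0 0 0 (-256) 32 0)
        (.br 3
         (.leaf 4 0 1 (-512) 64 0)
         (.leaf 0 0 0 0 8 0))))))
    (.leaf 0 0 0 0 2 0))))
def s3 : List Ty × Tr := ([t66, t66, t65, t65, t64, t62, t59, t53, t53, t33],
  (.leaf 0 0 0 0 2 0))
def s4 : List Ty × Tr := ([t64, t64, t63, t62, t59, t53, t53, t33],
  (.br 3
   (.leaf 0 0 0 (-8) 1 0)
   (.br 4
    (.leaf 0 0 0 (-16) 2 0)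
    (.br 2
     (.br 5
      (.br 6
       (.br 3
        (.br 2
         (.leaf (-1) 1 1 (-2048) 190 0)
         (.leaf 0 0 0 0 2 0))
        (.leaf 0 0 0 (-32) 4 0))
       (.leaf 0 0 0 0 8 0))
      (.leaf 0 0 0 0 8 0))
     (.leaf 0 0 0 0 2 0)))))
def s5 : List Ty × Tr := ([t66, t66, t66, t66, t65, t65, t65, t57, t53, t52, t33],
  (.leaf 0 0 0 (-4) 4 4))
def s6 : List Ty × Tr := ([t66, t66, t65, t64, t63, t57, t53, t52, t33],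
  (.leaf 0 0 0 (-16) 1 1))
def s7 : List Ty × Tr := ([t65, t65, t65, t59, t57, t53, t52, t33],
  (.leaf 0 0 0 (-4) 1 1))
def s8 : List Ty × Tr := ([t66, t66, t66, t66, t66, t66, t65, t64, t60, t53, t51, t33],
  (.br 10
   (.leaf 0 0 0 (-2) 2 0)
   (.br 8
    (.br 6
     (.br 7
      (.br 10
       (.br 9
        (.leaf (-4) 0 1 0 0 0)
        (.br 8
         (.leaf 4 0 (-1) 0 128 0)
         (.leaf 0 0 0 0 8 0)))
       (.leaf 0 0 0 (-8) 8 2))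
      (.leaf 1 (-1) 0 (-64) 64 16))
     (.leaf 0 0 0 (-128) 32 32))
    (.leaf 0 0 0 0 4 0))))
def s9 : List Ty × Tr := ([t66, t66, t63, t61, t60, t53, t51, t33],
  (.br 6
   (.leaf 0 0 0 (-8) 1 0)
   (.br 2
    (.br 3
     (.br 4
      (.leaf 0 0 0 (-64) 4 0)
      (.br 5
       (.br 2
        (.leaf 0 0 0 (-128) (-16) 0)
        (.leaf 0 0 0 (-32) 4 0))
       (.leaf 4 0 (-1) (-1) 1 0)))
     (.leaf 1 (-1) 0 (-16) 16 4))
    (.leaf 0 0 0 (-512) 64 0))))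
def s10 : List Ty × Tr := ([t66, t66, t65, t64, t60, t59, t53, t51, t33],
  (.br 5
   (.leaf 0 0 0 (-16) 2 0)
   (.br 7
    (.leaf 0 0 0 (-2) 2 0)
    (.br 4
     (.br 2
      (.br 3
       (.br 7
        (.br 6
         (.leaf (-4) 0 1 0 0 0)
         (.br 4
          (.leaf 4 0 (-1) 0 128 0)
          (.leaf 0 0 0 0 4 0)))
        (.leaf 0 0 0 (-8) 8 2))
       (.leaf 1 (-1) 0 (-64) 64 16))
      (.leaf 0 0 0 (-64) 16 16))
     (.leaf 0 0 0 0 2 0)))))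
def s11 : List Ty × Tr := ([t66, t66, t66, t65, t64, t55, t52, t51, t33],
  (.br 7
   (.leaf 0 0 0 (-2) 2 2)
   (.br 6
    (.leaf 0 0 0 0 2 0)
    (.br 3
     (.br 4
      (.br 6
       (.leaf 0 0 0 (-16) 0 4)
       (.br 7
        (.br 5
         (.leaf (-4) 0 1 0 256 0)
         (.br 6
          (.leaf 4 0 (-1) 0 0 0)
          (.leaf 0 0 0 0 8 0)))
        (.leaf 0 0 0 (-4) 4 1)))
      (.leaf 1 (-1) 0 (-32) 32 32))
     (.leaf 0 0 0 (-64) 16 16)))))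
def s12 : List Ty × Tr := ([t66, t66, t66, t65, t63, t58, t53, t50, t33],
  (.leaf 0 0 0 (-16) 1 0))
def s13 : List Ty × Tr := ([t66, t66, t65, t63, t60, t52, t50, t33],
  (.leaf 0 0 0 (-16) 1 1))
def s14 : List Ty × Tr := ([t66, t66, t65, t64, t64, t56, t53, t49, t33],
  (.leaf 0 0 0 0 2 0))
def s15 : List Ty × Tr := ([t65, t65, t61, t56, t53, t49, t33],
  (.leaf 0 0 0 0 2 0))
def s16 : List Ty × Tr := ([t66, t66, t65, t65, t64, t62, t52, t49, t33],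
  (.leaf 0 0 0 (-32) 8 8))
def s17 : List Ty × Tr := ([t64, t64, t63, t62, t52, t49, t33],
  (.br 3
   (.leaf 0 0 0 (-16) 1 1)
   (.br 4
    (.leaf 0 0 0 (-2) 2 0)
    (.br 4
     (.leaf 0 0 0 (-32) 0 8)
     (.leaf 0 0 0 (-32) 2 0)))))
def s18 : List Ty × Tr := ([t66, t66, t66, t65, t64, t58, t51, t49, t33],
  (.br 5
   (.br 6
    (.leaf 0 0 0 (-2) 2 2)
    (.br 3
     (.br 4
      (.br 0
       (.leaf 0 0 0 (-1024) 64 0)
       (.br 1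
        (.leaf 0 0 0 (-1024) 64 0)
        (.br 2
         (.leaf 0 0 0 (-1024) 64 0)
         (.br 5
          (.leaf 0 0 0 (-4) 0 1)
          (.br 5
           (.leaf 0 0 0 (-16) 0 4)
           (.br 6
            (.br 7
             (.leaf (-4) 0 1 0 256 0)
             (.br 5
              (.leaf 0 0 0 (-64) 0 16)
              (.br 3
               (.leaf (-1) 1 1 (-512) 512 0)
               (.leaf 0 0 0 0 32 0))))
            (.leaf 0 0 0 (-8) 2 2)))))))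
      (.leaf 1 (-1) 0 (-51) 51 64))
     (.leaf 0 0 0 (-64) 16 16)))
   (.leaf 0 0 0 0 2 0)))
def s19 : List Ty × Tr := ([t66, t66, t65, t65, t64, t62, t53, t53, t32],
  (.leaf 0 0 0 0 2 0))
def s20 : List Ty × Tr := ([t64, t64, t63, t62, t53, t53, t32],
  (.leaf 0 0 0 (-32) 4 0))
def s21 : List Ty × Tr := ([t65, t65, t65, t57, t53, t52, t32],
  (.leaf 0 0 0 (-4) 4 4))
def s22 : List Ty × Tr := ([t66, t66, t65, t64, t60, t53, t51, t32],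
  (.br 6
   (.leaf 0 0 0 (-2) 2 0)
   (.br 7
    (.leaf 0 0 0 (-16) 2 0)
    (.br 4
     (.br 2
      (.br 3
       (.br 6
        (.br 5
         (.leaf (-4) 0 1 0 0 0)
         (.br 4
          (.leaf 4 0 (-1) 0 128 0)
          (.leaf 0 0 0 0 4 0)))
        (.leaf 0 0 0 (-4) 4 1))
       (.leaf 1 (-1) 0 (-64) 64 16))
      (.leaf 0 0 0 (-64) 16 16))
     (.leaf 0 0 0 0 2 0)))))
def s23 : List Ty × Tr := ([t66, t66, t65, t63, t50, t43, t29, t29],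
  (.leaf 0 0 0 (-16) 1 1))
def s24 : List Ty × Tr := ([t66, t66, t66, t66, t65, t64, t51, t43, t29, t28],
  (.br 6
   (.leaf 0 0 0 (-2) 2 0)
   (.br 7
    (.br 8
     (.leaf 0 0 0 0 4 0)
     (.br 4
      (.br 5
       (.br 6
        (.br 9
         (.leaf (-4) 0 1 0 512 0)
         (.br 7
          (.br 8
           (.br 4
            (.leaf 0 0 0 0 (-16) 0)
            (.br 4
             (.leaf 27 1 (-7) 0 16384 0)
             (.leaf 0 0 0 0 64 0)))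
           (.leaf 0 0 0 0 16 0))
          (.leaf 0 0 0 0 16 0)))
        (.leaf 0 0 0 (-4) 4 1))
       (.leaf 1 (-1) 0 (-64) 64 16))
      (.leaf 0 0 0 0 8 0)))
    (.leaf 0 0 0 0 4 0))))
def s25 : List Ty × Tr := ([t63, t61, t51, t43, t29, t28],
  (.br 2
   (.leaf 0 0 0 (-8) 1 0)
   (.br 1
    (.leaf 0 0 0 (-32) 2 0)
    (.br 0
     (.leaf 1 (-1) 0 (-16) 16 16)
     (.br 3
      (.br 4
       (.leaf 0 0 0 (-4) 4 0)
       (.leaf 1 (-1) 1 (-256) 256 0))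
      (.leaf 0 0 0 16 2 0))))))
def s26 : List Ty × Tr := ([t65, t64, t59, t51, t43, t29, t28],
  (.br 2
   (.leaf 0 0 0 (-16) 2 0)
   (.br 3
    (.leaf 0 0 0 (-2) 2 2)
    (.br 4
     (.br 5
      (.leaf 0 0 0 0 4 0)
      (.br 0
       (.br 1
        (.br 3
         (.br 6
          (.leaf (-4) 0 1 0 512 0)
          (.br 2
           (.leaf 0 0 0 16 0 0)
           (.br 2
            (.leaf 0 0 0 32 0 0)
            (.br 2
             (.leaf 0 0 0 128 0 0)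
             (.br 4
              (.br 2
               (.br 5
                (.br 0
                 (.leaf 0 1 0 (-128) 128 0)
                 (.leaf 4 0 (-1) 4096 256 0))
                (.leaf 0 0 0 (-8) 8 0))
               (.leaf 0 0 0 (-128) 0 0))
              (.leaf 0 0 0 0 8 0))))))
         (.leaf 0 0 0 (-8) 2 2))
        (.leaf 1 (-1) 0 (-64) 64 0))
       (.leaf 0 0 0 0 8 0)))
     (.leaf 0 0 0 0 4 0)))))
def s27 : List Ty × Tr := ([t66, t66, t65, t65, t65, t57, t29, t29, t29, t28],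
  (.leaf 0 0 0 (-2) 2 2))
def s28 : List Ty × Tr := ([t65, t64, t63, t57, t29, t29, t29, t28],
  (.leaf 0 0 0 (-16) 1 1))
def s29 : List Ty × Tr := ([t66, t66, t65, t65, t64, t62, t29, t29, t28, t28],
  (.leaf 0 0 0 0 2 0))
def s30 : List Ty × Tr := ([t64, t64, t63, t62, t29, t29, t28, t28],
  (.leaf 0 0 0 (-32) 2 0))
def s31 : List Ty × Tr := ([t65, t64, t64, t56, t29, t28, t28, t28],
  (.leaf 0 0 0 0 2 0))
def s32 : List Ty × Tr := ([t66, t66, t66, t66, t66, t66, t65, t65, t64, t62, t43, t7],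
  (.leaf 0 0 0 0 2 0))
def s33 : List Ty × Tr := ([t66, t66, t66, t66, t64, t64, t63, t62, t43, t7],
  (.leaf 0 0 0 (-32) 4 0))
def s34 : List Ty × Tr := ([t66, t66, t65, t63, t62, t61, t43, t7],
  (.br 4
   (.leaf 0 0 0 (-8) 1 0)
   (.br 3
    (.br 5
     (.leaf 0 0 0 (-32) 4 0)
     (.br 6
      (.br 2
       (.leaf 1 (-1) 0 (-32) 32 0)
       (.br 4
        (.leaf (-4) 0 1 (-2048) 128 0)
        (.leaf 0 0 0 (-32) 4 0)))
      (.leaf 4 0 (-1) (-1) 0 0)))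
    (.leaf 0 0 0 0 2 0))))
def s35 : List Ty × Tr := ([t66, t66, t65, t65, t64, t62, t59, t43, t7],
  (.leaf 0 0 0 0 2 0))
def s36 : List Ty × Tr := ([t64, t64, t63, t62, t59, t43, t7],
  (.br 3
   (.leaf 0 0 0 (-8) 1 0)
   (.br 4
    (.leaf 0 0 0 (-8) 1 0)
    (.br 2
     (.br 5
      (.br 3
       (.br 2
        (.leaf (-1) 1 1 (-1024) (-49) 0)
        (.leaf 0 0 0 0 2 0))
       (.leaf 0 0 0 (-16) 2 0))
      (.leaf 4 0 (-1) (-1) 1 0))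
     (.leaf 0 0 0 0 2 0)))))
def s37 : List Ty × Tr := ([t66, t66, t65, t65, t64, t62, t43, t6],
  (.leaf 0 0 0 0 2 0))
def s38 : List Ty × Tr := ([t64, t64, t63, t62, t43, t6],
  (.leaf 0 0 0 (-32) 4 0))
def s39 : List Ty × Tr := ([t66, t66, t66, t66, t66, t66, t65, t65, t64, t62, t3],
  (.leaf 0 0 0 0 2 0))
def s40 : List Ty × Tr := ([t66, t66, t66, t66, t64, t64, t63, t62, t3],
  (.leaf 0 0 0 (-32) 4 0))
def s41 : List Ty × Tr := ([t66, t66, t65, t63, t62, t61, t3],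
  (.br 4
   (.leaf 0 0 0 (-8) 1 0)
   (.br 3
    (.br 5
     (.leaf 0 0 0 (-16) 2 0)
     (.br 6
      (.br 2
       (.leaf 1 (-1) 0 (-32) 32 0)
       (.br 4
        (.leaf (-4) 0 1 (-2048) 128 0)
        (.leaf 0 0 0 (-32) 4 0)))
      (.leaf 4 0 (-1) (-1) 0 0)))
    (.leaf 0 0 0 0 2 0))))
def s42 : List Ty × Tr := ([t66, t66, t65, t65, t64, t62, t59, t3],
  (.leaf 0 0 0 0 2 0))
def s43 : List Ty × Tr := ([t64, t64, t63, t62, t59, t3],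
  (.br 3
   (.leaf 0 0 0 (-8) 1 0)
   (.br 4
    (.leaf 0 0 0 (-8) 1 0)
    (.br 2
     (.br 5
      (.br 3
       (.br 2
        (.leaf (-1) 1 1 (-1024) (-49) 0)
        (.leaf 0 0 0 0 2 0))
       (.leaf 0 0 0 (-16) 2 0))
      (.leaf 4 0 (-1) (-1) 1 0))
     (.leaf 0 0 0 0 2 0)))))
def certs : List (List Ty × Tr) := [s0, s1, s2, s3, s4, s5, s6, s7, s8, s9, s10, s11, s12, s13, s14, s15, s16, s17, s18, s19, s20, s21, s22, s23, s24, s25, s26, s27, s28, s29, s30, s31, s32, s33, s34, s35, s36, s37, s38, s39, s40, s41, s42, s43]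

theorem certs_ok : certs.all (fun p => chk0 p.1 p.2) = true := by decide +kernel

theorem enum_ok : enum (certs.map Prod.fst) tyA tyB tyC = true := by decide +kernel

theorem no_list {K : Type*} [Field K] [LinearOrder K] [IsStrictOrderedRing K] {L : List (Ty × ℤ)}
    (hL : ∀ x ∈ L, x.1 ∈ tyA ++ (tyB ++ tyC) ∧ x.1.dom.Mem x.2)
    (hs : (L.map fun x => x.1.v).sum = ![15, 55, 240, 256, 256, 3, -4, 12]) (hE : Eqs K L) :
    False := by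
  obtain ⟨s, h1, h2⟩ := enum_sound enum_ok (L := L.map Prod.fst)
    (fun t ht => by obtain ⟨x, hx, rfl⟩ := List.mem_map.1 ht; exact (hL x hx).1)
    (by rw [List.map_map]; exact hs)
  obtain ⟨p, hp, rfl⟩ := List.mem_map.1 h1
  exact chk0_sound hE (fun x hx => (hL x hx).2) h2 (List.all_eq_true.1 certs_ok p hp)

end Cfsg.Lib.Rank2.Ly2
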