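import Cfsg.Agent.Rank2.OddCyc
import Cfsg.Agent.Rank2.QDOrder
import Cfsg.Agent.Rank2.FusCent
import Cfsg.Agent.Rank2.QuatSylow
import Cfsg.Agent.GW.Cor
import Cfsg.Agent.Inst.S0483

/-! Quasi-dihedral Sylow `2`-subgroups and cyclic Sylow subgroups of odd order (Wong). -/

set_option autoImplicit false

namespace Cfsg.Lib.Rank2

open Cfsg Subgroup Cfsg.Lib.Trans Cfsg.Lib.Class Matrix SemidirectProduct
open scoped MatrixGroups

/-- The arithmetic of Brauer's order formula. -/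
theorem qd_num {Q f g e i κ : ℤ} (hp : Prime Q) (h4 : Q % 4 = 1) (hκ : κ ≠ 0)
    (h1 : e * i * (Q * (f - Q) ^ 2) = (Q * (Q - 1) * κ) ^ 2 * ((Q + 1) * (f * (f + 1))))
    (h2 : g * (f + Q ^ 2) = Q ^ 2 * (1 + f)) (hi : IsCoprime (Q * (Q - 1) * (Q + 1)) i)
    (he : e = 1 ∨ e = 3 ∧ ¬ 3 ∣ Q * (Q - 1) ∧ i % 3 = 1) : False := by
  have h0 := hp.ne_zero
  have hQ1 : Q - 1 ≠ 0 := fun h => hp.ne_one (by omega)
  have hQ2 : Q + 1 ≠ 0 := by omega
  have h3 : IsCoprime (Q * (Q - 1)) (e * i) := .mul_right (by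
    rcases he with rfl | ⟨rfl, h, -⟩
    exacts [isCoprime_one_right, (Int.prime_three.coprime_iff_not_dvd.2 h).symm]) hi.of_mul_left_left
  obtain ⟨f, rfl⟩ : Q ∣ f := by
    have : Q ∣ e * i * (f - Q) ^ 2 := ⟨(Q - 1) ^ 2 * κ ^ 2 * ((Q + 1) * (f * (f + 1))),
      mul_left_cancel₀ h0 (by linear_combination h1)⟩
    simpa using (hp.dvd_of_dvd_pow (h3.of_mul_left_left.dvd_of_dvd_mul_left this)).add (dvd_refl Q)
  have h5 : e * i * (f - 1) ^ 2 = (Q - 1) ^ 2 * (κ ^ 2 * ((Q + 1) * (f * (Q * f + 1)))) :=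
    mul_left_cancel₀ (pow_ne_zero 3 h0) (by linear_combination h1)
  have h6 : IsCoprime (f + Q) Q := (hp.coprime_iff_not_dvd.2 fun h => by
    have h' : Q ∣ f := by simpa using h
    have := hp.dvd_of_dvd_pow (h3.of_mul_left_left.dvd_of_dvd_mul_left
      (h5 ▸ (((h'.mul_right _).mul_left _).mul_left _).mul_left _))
    exact hp.not_dvd_one (by simpa using h'.sub this)).symm
  have h7 : f + Q ∣ (Q - 1) * (Q + 1) := by
    have : f + Q ∣ 1 + Q * f :=
      h6.dvd_of_dvd_mul_left ⟨g, mul_left_cancel₀ h0 (by linear_combination -h2)⟩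
    exact (show Q * (f + Q) - (1 + Q * f) = (Q - 1) * (Q + 1) by ring) ▸
      (dvd_mul_left _ Q).sub this
  obtain ⟨m, hm⟩ := (Int.pow_dvd_pow_iff two_ne_zero).1
    (h3.of_mul_left_right.pow_left.dvd_of_dvd_mul_left ⟨_, h5⟩)
  obtain rfl : f = 1 + (Q - 1) * m := by omega
  obtain ⟨d, a, b, hd, hab, rfl, hb⟩ := Int.exists_gcd_one' (Int.gcd_pos_of_ne_zero_right m hQ2)
  have hd' : (d : ℤ) ≠ 0 := by omega
  rw [← Int.isCoprime_iff_gcd_eq_one] at hab
  have h8 : e * i * a ^ 2 = b * (κ ^ 2 * ((1 + (Q - 1) * (a * d)) * (b + Q * (Q - 1) * a))) :=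
    mul_left_cancel₀ (pow_ne_zero 2 (mul_ne_zero hQ1 hd')) (by
      linear_combination h5 + (Q - 1) ^ 2 * κ ^ 2 * (1 + (Q - 1) * (a * d)) *
        (Q + 1 + b * d + Q * (Q - 1) * (a * d)) * hb)
  have h9 : b ∣ e := (hi.of_mul_left_right.of_isCoprime_of_dvd_left ⟨d, hb⟩).dvd_of_dvd_mul_right
    (hab.symm.pow_right.dvd_of_dvd_mul_right ⟨_, h8⟩)
  have h10 : IsCoprime b (Q - 1) :=
    ((h3.of_mul_left_right.of_mul_right_left).of_isCoprime_of_dvd_right h9).symm
  have h11 : b + (Q - 1) * a ∣ (Q - 1) * b := (mul_dvd_mul_iff_right hd').1 (by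
    rwa [show (b + (Q - 1) * a) * d = 1 + (Q - 1) * (a * d) + Q by linear_combination -hb,
      mul_assoc _ b, ← hb])
  have h12 := Int.isUnit_iff.1 (isCoprime_self.1 ((IsCoprime.mul_right (h10.add_mul_left_left a)
    (by simpa [add_comm] using (h10.symm.mul_left hab).add_mul_left_left 1)
      ).of_isCoprime_of_dvd_right h11))
  obtain ⟨k, rfl⟩ : ∃ k, Q = 4 * k + 1 := ⟨Q / 4, by omega⟩
  have h13 : (4 * k + 1 - 1) * a = 4 * (k * a) := by ring
  have h14 : b ∣ 3 := by rcases he with rfl | ⟨rfl, -⟩; exacts [h9.trans (one_dvd _), h9]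
  have h15 := Int.le_of_dvd (by norm_num) h14
  have h16 := Int.le_of_dvd (by norm_num) h14.neg_left
  rcases eq_or_ne (k * a) 0 with h | h
  · obtain rfl : a = 0 := (mul_eq_zero.1 h).resolve_left (by omega)
    simp [hκ, show b ≠ 0 by omega] at h8
  obtain ⟨rfl, -, hi3⟩ := he.resolve_left (by
    rintro rfl
    rcases Int.isUnit_iff.1 (isUnit_of_dvd_one h9) with rfl | rfl <;> omega)
  have h17 : i = 119 * κ ^ 2 := by
    obtain ⟨hka, rfl⟩ | ⟨hka, rfl⟩ : k * a = -1 ∧ b = 3 ∨ k * a = 1 ∧ b = -3 := by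
      have : b ≠ 2 := by rintro rfl; norm_num at h14
      have : b ≠ -2 := by rintro rfl; norm_num at h14
      omega
    · obtain ⟨rfl, rfl⟩ := (Int.eq_one_or_neg_one_of_mul_eq_neg_one' hka).resolve_right (by omega)
      obtain h : (d : ℤ) = 2 := by omega
      rw [h] at h8
      linarith
    · obtain ⟨rfl, rfl⟩ := (Int.eq_one_or_neg_one_of_mul_eq_one' hka).resolve_right (by omega)
      omega
  have : κ % 3 = 0 ∨ κ % 3 = 1 ∨ κ % 3 = 2 := by omega
  rcases this with h | h | h <;> simp [h17, pow_two, Int.mul_emod, h] at hi3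

variable {K : Type*} [Field K] [Finite K]

theorem OddCyc.prime_card (h : OddCyc (psl2 K)) (hK : Odd (Nat.card K)) : (Nat.card K).Prime := by
  obtain ⟨p, hp, _, ho⟩ := exists_odd_char hK
  have hU : ∀ g : (unip p (P1.inf K)).subgroupOf (psl2 K), g ^ p = 1 := fun g =>
    Subtype.ext (Subtype.ext ((mem_unip p).1 g.2).2)
  have := h p hp.out (by rintro rfl; norm_num at ho) _ fun g => ⟨1, by rw [pow_one, hU]⟩
  have h1 := Monoid.exponent_dvd_of_forall_pow_eq_one hU
  rw [IsCyclic.exponent_eq_card, Nat.card_congr (subgroupOfEquivOfLe (unip_le_psl2 p _)).toEquiv,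
    card_unip] at h1
  exact ((Nat.dvd_prime hp.out).1 h1).resolve_left Finite.one_lt_card.ne' ▸ hp.out

theorem card_ringAut_of_prime (h : (Nat.card K).Prime) : Nat.card (RingAut K) = 1 := by
  have := Fintype.ofFinite K
  have := Fact.mk h
  exact Known.card_ringAut (p := Nat.card K) (by rw [pow_one, Nat.card_eq_fintype_card])

theorem card_centralizer_invol (hK : Odd (Nat.card K)) {t : PGL(2, K)} (ht : orderOf t = 2)
    (h : t ∉ psl2 K) :
    (Nat.card (centralizer ({t} : Set PGL(2, K))) : ℤ) = 2 * (Nat.card K + eps K) := by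
  obtain ⟨x, y, hT, hxy, hc⟩ := GW.exists_pair_of_inv hK ht
  have h1 : t ≠ 1 := fun h => by simp [h] at ht
  have h2 := exists_fixed_iff_of_invol hK 
    ((pow_two t).symm.trans (orderOf_dvd_iff_pow_eq_one.1 ht.dvd)) h1
  rw [hc, hT.card_stabPair, eps]
  split_ifs with h4
  · obtain ⟨w, hw⟩ := h2.2 (iff_of_true h h4)
    rw [hT.card_fixPair_of_mem ((pgl2_fixed_eq_or (mt bar_eq_one_iff.1 h1) hT.ne
      (mem_fixPair.1 hxy).1 (mem_fixPair.1 hxy).2 ((bar_smul_barPt_eq_iff t w w).2 hw)).elim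
      (fun h => ⟨w, h⟩) fun h => hT.mem_range_iff.2 ⟨w, h⟩)]
    omega
  · rw [hT.card_fixPair_of_not_mem fun ⟨w, hw⟩ => h4 ((h2.1 ⟨w, (bar_smul_barPt_eq_iff t w w).1
      (hw ▸ (mem_fixPair.1 hxy).1)⟩).1 h)]
    omega

theorem QDG.card_inf_centralizer {G : Type*} [Group G] [Finite G] {S : Sylow 2 G} {m : ℕ}
    (F : QDFrame (S : Subgroup G) m) (hG : ∀ H : Subgroup G, H.index ≠ 2) (t t' : G)
    (ht : orderOf t = 2) (ht' : orderOf t' = 2) (hne : t ≠ t') (hc : t * t' = t' * t) :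
    Nat.card (centralizer ({t} : Set G) ⊓ centralizer ({t'} : Set G) : Subgroup G) =
      Nat.card (centralizer {QDG.uC F}) := by
  obtain ⟨g, rfl⟩ := isConj_iff.1 (QDG.isConj_zz F hG t ht)
  obtain ⟨t', rfl⟩ := (MulAut.conj g).surjective t'
  rw [MulEquiv.orderOf_eq] at ht'
  have h1 : t' ∈ QDG.CC F := mem_centralizer_singleton_iff.2 ((MulAut.conj g).injective (by
    rw [map_mul, map_mul]; exact hc.symm))
  obtain ⟨c, hc⟩ := isConj_iff.1 (QDG.isConj_Y_zero F ⟨t', h1⟩ ((orderOf_mk _ _).trans ht')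
    fun h => hne (by rw [← h]; rfl))
  obtain rfl : c.1 * QDG.Y F 0 * c.1⁻¹ = t' := congrArg Subtype.val hc
  have h2 : ∀ g x : G, centralizer {g * x * g⁻¹} = cj g (centralizer {x}) := fun g x => by
    rw [cj_centralizer_set, Set.image_singleton]
  rw [MulAut.conj_apply, h2, h2, h2, ← cj_inf, card_cj, ← congrArg (· ⊓ _) (cj_eq_of_mem c.2),
    ← cj_inf, card_cj, ← card_map_of_injective (QDG.CC F).subtype_injective, inf_comm, ← subgroupOf_map_subtype]
  rw [show (centralizer {QDG.Y F 0}).subgroupOf _ = centralizer {QDG.uC F} from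
    Subgroup.ext fun x => by
      simp only [mem_subgroupOf, mem_centralizer_singleton_iff, Subtype.ext_iff]
      rfl]

universe u

/-- **Wong**: with quasi-dihedral Sylow `2`-subgroups and no subgroup of index two, some Sylow
subgroup of odd order is not cyclic. -/
theorem OddCyc.not_isQuasiDihedral {G : Type u} [Group G] [Finite G] (h : OddCyc G)
    (hG : ∀ H : Subgroup G, H.index ≠ 2) (S : Sylow 2 G) :
    ¬ IsQuasiDihedral (S : Subgroup G) := fun hS => by
  obtain ⟨m, hm, ⟨F⟩⟩ := exists_qdFrame hS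
  let W := QW.ofQD F
  let E := SylEmb.ofLe S (QDG.S_le_centralizer F)
  obtain ⟨⟨N, hN, -, h1, h2⟩, -⟩ := qw_centralizer (.inl hS) (SylEmb.ofSylow S) hG
    ((QD.mem_center_r F _).2 QDG.two_mul_half) (FusQ.orderOf_z F)
  obtain ⟨h3, h4, h5⟩ := qgroup_hyps h1 h2
  obtain ⟨K, _, _, hK, ⟨D⟩⟩ := @exists_loc_of_qgroup _ _ _ _ _ _ _ W E N hN h3 h4 h5
  rw [← Nat.card_eq_fintype_card] at hK
  obtain ⟨M, hM⟩ := Block.Princ.exists_isPModular Nat.prime_two
  have := Fintype.ofFinite (QDG.CC F)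
  have L := QDG.qdLoc_of_loc hM hK D
  have hone := QDG.isConj_zz F hG
  obtain ⟨C⟩ := L.nonempty_qdChars hM hone
  have hp := (((h.subgroup _).of_surjective _ (D.π hK).rangeRestrict_surjective).of_injective
    (((inl : PGL(2, K) →* PGamma K).comp (psl2 K).subtype).codRestrict _ fun g =>
      D.exists_π_eq_inl hK W E g) fun a b h =>
    Subtype.ext (inl_injective (congrArg Subtype.val h))).prime_card hK
  have := (Nat.card_eq_one_iff_unique.1 (card_ringAut_of_prime hp)).1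
  let e := MulEquiv.ofBijective (inl : PGL(2, K) →* PGamma K) ⟨inl_injective, fun γ =>
    ⟨_, (PGamma.eq_inl_of_right (Subsingleton.elim _ _)).symm⟩⟩
  let φ := e.symm.toMonoidHom.comp (D.π hK)
  have hφ : ∀ c, φ c = (D.π hK c).left := fun c =>
    e.symm_apply_eq.2 (PGamma.eq_inl_of_right (Subsingleton.elim _ _))
  have hs : Function.Surjective φ := fun g => (D.exists_π_eq_inl hK W E g).imp fun c hc => by
    rw [hφ, hc, left_inl]
  have hu : orderOf (QDG.uC F) = 2 := (orderOf_mk _ _).trans (QDG.orderOf_Y_zero F)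
  have h6 := card_centralizer_invol hK (t := φ (QDG.uC F)) (orderOf_eq_prime
    (by rw [← map_pow, orderOf_dvd_iff_pow_eq_one.1 hu.dvd, map_one]) fun h => QD.not_mem_center_s F 0
      ((D.π_j_eq_one_iff hK W E).1 (e.symm.map_eq_one_iff.1 h))) fun h => by
    rw [hφ, ← D.sgn_eq_one_iff] at h
    obtain ⟨q, hq, c, hc, h⟩ := (D.sgn_j_eq_one_iff hK W E (g := F.s 0)).1 h
    refine FusQ.s0_not_mem F (h ▸ mul_mem hq ?_)
    rcases F.cases c with ⟨i, rfl⟩ | ⟨i, rfl⟩
    · exact (QD.r_mem_sub F).2 (by linear_combination 2 ^ (m + 1) * (QD.mem_center_r F i).1 hc)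
    · exact absurd hc (QD.not_mem_center_s F i)
  have h7 : (centralizer {φ (QDG.uC F)}).index ∣ (centralizer {QDG.uC F}).index :=
    (index_dvd_of_le (map_le_iff_le_comap.2 fun c hc => mem_centralizer_singleton_iff.2 (by
      rw [← map_mul, mem_centralizer_singleton_iff.1 hc, map_mul]))).trans (index_map_dvd _ hs)
  have h8 := (centralizer {φ (QDG.uC F)}).card_mul_index
  have h9 := card_dvd_of_surjective φ hs
  have h10 := (centralizer {QDG.uC F}).card_mul_index
  have h11 := (pPrimeCore 2 (centralizer {QDG.uC F})).card_mul_index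
  have h12 := Solv.coprime_card_pPrimeCore 2 (centralizer {QDG.uC F})
  rw [show (pPrimeCore 2 (centralizer {QDG.uC F})).index = 4 from QDG.index_Y_zero F] at h11
  have h13 : 2 ^ (m + 2) ∣ (centralizer {QDG.uC F}).index := by
    have := hm ▸ card_dvd_of_le (QDG.S_le_centralizer F)
    rw [← h10, ← h11, mul_assoc, show 2 ^ (m + 4) = 4 * 2 ^ (m + 2) by ring] at this
    exact Nat.dvd_of_mul_dvd_mul_left (by norm_num) (((h12.symm.pow_left 2).mul_left
      (h12.symm.pow_left _)).dvd_of_dvd_mul_left this)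
  have key := @OddCyc.index_invol _ _ _ h _ (QDG.orderOf_zz F) hone _
    (fun h8 => coprime_iff_not_dvd'.1 h12 (by omega)) (QDG.card_inf_centralizer F hG)
  have h14 : ∀ i, i ∣ (QDG.CC F).index → ¬ 3 ∣ i → (Nat.card (QDG.CC F)).Coprime i :=
    fun i hi h3 => Nat.coprime_of_dvd fun r hr h1 h2 => by
      have := Fact.mk hr
      obtain rfl := (key (fun h => S.not_dvd_index ((h ▸ h2.trans hi).trans
        (index_dvd_of_le (QDG.S_le_centralizer F)))) h1 (h2.trans hi)).1
      exact h3 h2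
  have h15 := C.order_formula hM hone L
  have h16 := C.g_mul hM hG L
  have h17 := L.mod_four
  obtain ⟨k, hk⟩ := D.exists_stZ_one hK W E
  rw [D.stZ_one] at hk
  have he := eps_mul_self K
  have hq : 1 < Nat.card K := hp.one_lt
  rw [card_PGL2] at h8 h9
  zify [hq.le] at h7 h8 h9 h10 h13
  rw [h6] at h8
  set Q := eps K * Nat.card K with hQ
  have hQp : Prime Q := by
    have := Nat.prime_iff_prime_int.1 hp
    rcases eps_eq K with h | h <;> rw [hQ, h]
    exacts [by rwa [one_mul], by rw [neg_one_mul]; exact this.neg]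
  have h18 : Q * (2 * k + 1) * 2 ^ (m + 1) = (centralizer {φ (QDG.uC F)}).index :=
    mul_left_cancel₀ (show (2 * (Nat.card K + eps K) : ℤ) ≠ 0 by
      rcases eps_eq K with h | h <;> omega) (by
      rw [h8]
      linear_combination (-(Nat.card K + eps K) * Q) * hk +
        (Nat.card K ^ 3 + eps K * Nat.card K ^ 2 - Nat.card K) * he)
  obtain ⟨κ, hκ⟩ : Q * (Q - 1) ∣ (centralizer {QDG.uC F}).index := by
    rw [show Q * (Q - 1) = Q * (2 * k + 1) * 2 ^ (m + 2) by linear_combination Q * hk]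
    exact IsCoprime.mul_dvd (.pow_right (.mul_left ⟨1, -(Q / 2), by omega⟩ ⟨1, -k, by ring⟩))
      ((Dvd.intro _ h18).trans h7) h13
  have h19 : Q * (Q - 1) * (Q + 1) ∣ Nat.card (QDG.CC F) := by
    rw [show Q * (Q - 1) * (Q + 1) = eps K * (Nat.card K * (Nat.card K - 1) * (Nat.card K + 1)) by
      linear_combination (eps K * Nat.card K ^ 3) * he]
    rcases eps_eq K with h | h <;> simpa [h] using h9
  have h20 : ((QDG.CC F).index : ℤ) * (Q * (C.f - Q) ^ 2) =
      (Q * (Q - 1) * κ) ^ 2 * ((Q + 1) * (C.f * (C.f + 1))) := by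
    rw [← (QDG.CC F).card_mul_index] at h15
    push_cast at h15
    refine mul_left_cancel₀ (mul_ne_zero (Nat.cast_ne_zero.2 (Nat.card_pos (α := QDG.CC F)).ne')
      (pow_ne_zero 2 (Nat.cast_ne_zero.2 (Nat.card_pos (α := centralizer {QDG.uC F})).ne'))) ?_
    rw [← hκ]
    linear_combination h15 - Nat.card (QDG.CC F) * ((Q + 1) * (C.f * (C.f + 1))) *
      (Nat.card (QDG.CC F) + Nat.card (centralizer {QDG.uC F}) *
        (centralizer {QDG.uC F}).index) * h10
  have hκ0 : κ ≠ 0 := by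
    rintro rfl
    exact index_ne_zero_of_finite (by exact_mod_cast hκ.trans (mul_zero _))
  by_cases h3 : 3 ∣ (QDG.CC F).index
  · have := Fact.mk Nat.prime_three
    obtain ⟨-, h21, h22⟩ := key (r := 3) (by norm_num) (Int.natCast_dvd_natCast.1 (dvd_trans (by
      have : Q % 3 = 0 ∨ Q % 3 = 1 ∨ Q % 3 = 2 := by omega
      rcases this with h | h | h <;>
        simp [Int.dvd_iff_emod_eq_zero, Int.mul_emod, Int.add_emod, Int.sub_emod, h]) h19)) h3
    obtain ⟨i, hi⟩ := h3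
    rw [hi] at h20 h22
    refine qd_num hQp h17 hκ0 (e := 3) (i := i) (by exact_mod_cast h20) h16
      ((Nat.isCoprime_iff_coprime.2 (h14 i (Dvd.intro_left _ hi.symm)
        (by omega))).of_isCoprime_of_dvd_left h19) (.inr ⟨rfl, fun h => ?_, by omega⟩)
    have h23 : 3 ∣ (centralizer {QDG.uC F}).index :=
      Int.natCast_dvd_natCast.1 (h.trans ⟨κ, hκ⟩)
    rw [← (centralizer {QDG.uC F}).card_mul_index, Nat.factorization_mul Nat.card_pos.ne'
      index_ne_zero_of_finite, Finsupp.add_apply] at h21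
    have := Nat.prime_three.factorization_pos_of_dvd index_ne_zero_of_finite h23
    omega
  · exact qd_num hQp h17 hκ0 (e := 1) (by rwa [one_mul]) h16
      ((Nat.isCoprime_iff_coprime.2 (h14 _ dvd_rfl h3)).of_isCoprime_of_dvd_left h19) (.inl rfl)

end Cfsg.Lib.Rank2
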