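import Cfsg.Agent.Gold.Cm

/-!
# Standard subgroups with cyclic centraliser: the class of the involution

Elementary facts on cyclic 2-groups and the dihedral weak closure of the involution.
-/

set_option autoImplicit false

namespace Cfsg.Lib.Rank2.Std

open Subgroup Cfsg.Lib.Trans Cfsg.Lib.Gold

variable {G : Type*} [Group G]

/-- A 2-element. -/
def Two (a : G) : Prop := ∃ k : ℕ, a ^ 2 ^ k = 1

section Cyc
variable {a c f g u v : G} {S : Subgroup G}

theorem Two.of_mem (hS : IsPGroup 2 S) (ha : a ∈ S) : Two a := by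
  obtain ⟨k, hk⟩ := hS ⟨a, ha⟩
  exact ⟨k, congrArg Subtype.val hk⟩

theorem Two.isPGroup (h : Two a) : IsPGroup 2 (zpowers a) := by
  obtain ⟨k, hk⟩ := h
  rintro ⟨_, i, rfl⟩
  refine ⟨k, Subtype.ext ?_⟩
  show (a ^ i) ^ 2 ^ k = 1
  rw [← zpow_natCast, ← zpow_mul, mul_comm, zpow_mul, zpow_natCast, hk, one_zpow]

theorem Two.of_mem_zpowers (h : Two c) (hf : f ∈ zpowers c) : Two f := Two.of_mem h.isPGroup hf

theorem Two.mem_zpowers_odd (h : Two c) {i : ℤ} (hi : Odd i) : c ∈ zpowers (c ^ i) := by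
  obtain ⟨k, hk⟩ := h
  have h2 : IsCoprime i ((2 : ℤ) ^ k) := (Int.isCoprime_two_right.2 hi).pow_right
  obtain ⟨x, y, hxy⟩ := h2
  refine ⟨x, ?_⟩
  show (c ^ i) ^ x = c
  have h3 : c ^ ((2 : ℤ) ^ k) = 1 := by
    have : ((2 : ℤ) ^ k) = ((2 ^ k : ℕ) : ℤ) := by push_cast; rfl
    rw [this, zpow_natCast, hk]
  calc (c ^ i) ^ x = c ^ (x * i) * (c ^ ((2 : ℤ) ^ k)) ^ y := by
        rw [h3, one_zpow, mul_one, ← zpow_mul, mul_comm]
    _ = c ^ (x * i + y * 2 ^ k) := by rw [← zpow_mul, ← zpow_add, mul_comm ((2 : ℤ) ^ k)]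
    _ = c := by rw [hxy, zpow_one]

theorem comm_of_mem_zpowers (hf : f ∈ zpowers c) (hg : g ∈ zpowers c) : f * g = g * f := by
  obtain ⟨i, rfl⟩ := hf
  obtain ⟨j, rfl⟩ := hg
  exact zpow_mul_comm c i j

theorem comm_zpowers (h : g * c = c * g) (hf : f ∈ zpowers c) : g * f = f * g := by
  obtain ⟨i, rfl⟩ := hf
  exact (Commute.zpow_right (show Commute g c from h) i).eq

theorem inv_zpowers (h : g * c * g⁻¹ = c⁻¹) (hf : f ∈ zpowers c) : g * f * g⁻¹ = f⁻¹ := by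
  obtain ⟨i, rfl⟩ := hf
  show g * c ^ i * g⁻¹ = (c ^ i)⁻¹
  rw [← conj_zpow, h, inv_zpow]

theorem sq_zpow (c : G) (i : ℤ) : (c * c) ^ i = c ^ i * c ^ i := (Commute.refl c).mul_zpow i

theorem mem_sq_iff : f ∈ zpowers (c * c) ↔ ∃ e ∈ zpowers c, f = e * e := by
  constructor
  · rintro ⟨i, rfl⟩
    exact ⟨c ^ i, zpow_mem (mem_zpowers c) i, sq_zpow c i⟩
  · rintro ⟨_, ⟨i, rfl⟩, rfl⟩
    exact ⟨i, sq_zpow c i⟩

theorem sq_le (c : G) : zpowers (c * c) ≤ zpowers c :=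
  zpowers_le.2 (mul_mem (mem_zpowers c) (mem_zpowers c))

theorem sq_mem_sq (hf : f ∈ zpowers c) : f * f ∈ zpowers (c * c) := mem_sq_iff.2 ⟨f, hf, rfl⟩

theorem exists_odd (hf : f ∈ zpowers c) (h2 : f ∉ zpowers (c * c)) : ∃ i : ℤ, Odd i ∧ f = c ^ i := by
  obtain ⟨i, rfl⟩ := hf
  rcases Int.even_or_odd i with ⟨j, rfl⟩ | h
  · exact (h2 ⟨j, by show (c * c) ^ j = c ^ (j + j); rw [sq_zpow, zpow_add]⟩).elim
  · exact ⟨i, h, rfl⟩

theorem Two.gen (h : Two c) (hf : f ∈ zpowers c) (h2 : f ∉ zpowers (c * c)) : c ∈ zpowers f := by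
  obtain ⟨i, hi, rfl⟩ := exists_odd hf h2
  exact h.mem_zpowers_odd hi

theorem Two.not_mem_sq (h : Two c) (h1 : c ≠ 1) : c ∉ zpowers (c * c) := by
  rintro ⟨j, hj⟩
  have hj' : (c * c) ^ j = c := hj
  have h2 : c ^ (2 * j - 1) = 1 := by
    rw [zpow_sub_one, two_mul, zpow_add, ← sq_zpow, hj', mul_inv_cancel]
  have := h.mem_zpowers_odd (i := 2 * j - 1) ⟨j - 1, by ring⟩
  rw [h2, zpowers_one_eq_bot, mem_bot] at this
  exact h1 this

theorem mul_mem_sq (hf : f ∈ zpowers c) (hg : g ∈ zpowers c) (hf2 : f ∉ zpowers (c * c))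
    (hg2 : g ∉ zpowers (c * c)) : f * g ∈ zpowers (c * c) := by
  obtain ⟨i, ⟨i', rfl⟩, rfl⟩ := exists_odd hf hf2
  obtain ⟨j, ⟨j', rfl⟩, rfl⟩ := exists_odd hg hg2
  refine ⟨i' + j' + 1, ?_⟩
  show (c * c) ^ (i' + j' + 1) = _
  rw [sq_zpow, ← zpow_add, ← zpow_add]
  congr 1
  ring

theorem Two.exists_invol (h : Two a) (h1 : a ≠ 1) : ∃ u ∈ zpowers a, u ≠ 1 ∧ u * u = 1 := by
  obtain ⟨k, hk⟩ := h
  induction k generalizing a with
  | zero => exact (h1 (by simpa using hk)).elim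
  | succ k ih =>
    by_cases h2 : a * a = 1
    · exact ⟨a, mem_zpowers a, h1, h2⟩
    · obtain ⟨u, hu, h⟩ := ih h2 (by rw [← pow_two, ← pow_mul, ← pow_succ', hk])
      exact ⟨u, sq_le a hu, h⟩

theorem invol_unique (hu : u ∈ zpowers c) (hv : v ∈ zpowers c) (u1 : u ≠ 1) (v1 : v ≠ 1)
    (uu : u * u = 1) (vv : v * v = 1) : u = v := by
  obtain ⟨i, rfl⟩ := hu
  obtain ⟨j, rfl⟩ := hv
  change c ^ i ≠ 1 at u1
  change c ^ j ≠ 1 at v1
  change c ^ i * c ^ i = 1 at uu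
  change c ^ j * c ^ j = 1 at vv
  show c ^ i = c ^ j
  rw [← zpow_add, ← orderOf_dvd_iff_zpow_eq_one] at uu vv
  rw [Ne, ← orderOf_dvd_iff_zpow_eq_one] at u1 v1
  rw [← mul_inv_eq_one, ← zpow_sub, ← orderOf_dvd_iff_zpow_eq_one]
  obtain ⟨x, hx⟩ := uu
  obtain ⟨y, hy⟩ := vv
  rcases Int.even_or_odd' x with ⟨x', rfl | rfl⟩
  · exact (u1 ⟨x', by linarith⟩).elim
  rcases Int.even_or_odd' y with ⟨y', rfl | rfl⟩
  · exact (v1 ⟨y', by linarith⟩).elim
  exact ⟨x' - y', by linarith⟩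

theorem Two.orderOf_sq_lt [Finite G] (h : Two a) (h1 : a ≠ 1) : orderOf (a * a) < orderOf a := by
  rw [← Nat.card_zpowers, ← Nat.card_zpowers]
  refine card_lt_of_lt (lt_of_le_of_ne (sq_le a) fun e => h.not_mem_sq h1 ?_)
  rw [e]
  exact mem_zpowers a

theorem orderOf_le_of_mem [Finite G] (h : f ∈ zpowers c) : orderOf f ≤ orderOf c :=
  Nat.le_of_dvd (orderOf_pos c) (orderOf_dvd_of_mem_zpowers h)

theorem mem_zpowers_invol (hu : u * u = 1) (hf : f ∈ zpowers u) : f = 1 ∨ f = u := by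
  by_cases h1 : f = 1
  · exact Or.inl h1
  have hu1 : u ≠ 1 := by
    rintro rfl
    rw [zpowers_one_eq_bot, mem_bot] at hf
    exact h1 hf
  refine Or.inr (invol_unique hf (mem_zpowers u) h1 hu1 ?_ hu)
  obtain ⟨i, rfl⟩ := hf
  show u ^ i * u ^ i = 1
  rw [← sq_zpow, hu, one_zpow]

theorem inv_eq_self (h : u * u = 1) : u⁻¹ = u := inv_eq_of_mul_eq_one_right h

end Cyc

/-- The properties of the conjugacy class of the involution `z`. -/
structure ZC (z : G) : Prop where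
  sq : z * z = 1
  ne : z ≠ 1
  nsq : ∀ {v w a : G}, IsConj z v → IsConj z w → v ≠ w → a * v = v * a → a * a ≠ w
  tri : ∀ {u v w : G}, IsConj z u → IsConj z v → IsConj z w → u * v = v * u → u * w = w * u →
    v * w = w * v → v ≠ u → w ≠ u → v ≠ w → w = u * v
  exr : ∀ {v w : G}, IsConj z v → IsConj z w → v * w = w * v → v ≠ w →
    ∃ r, r * r = v ∧ r * w * r⁻¹ = w * v

theorem isConj_cj {z v : G} (h : IsConj z v) (g : G) : IsConj z (g * v * g⁻¹) :=
  h.trans (isConj_iff.2 ⟨g, rfl⟩)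

theorem isConj_cj' {z v : G} (h : IsConj z v) (g : G) : IsConj z (g⁻¹ * v * g) := by
  simpa using isConj_cj h g⁻¹

theorem zc_of_base {z : G} (H : Subgroup G) (sq : z * z = 1) (ne : z ≠ 1)
    (mul : ∀ a b, a * z = z * a → b * z = z * b → a ∉ H → b ∉ H → a * b ∈ H)
    (out : ∀ v, IsConj z v → v * z = z * v → v ≠ z → v ∉ H)
    (ex : ∀ v, IsConj z v → v * z = z * v → v ≠ z → ∃ r, r * r = z ∧ r * v * r⁻¹ = v * z) :
    ZC z := by
  have exr : ∀ {v w : G}, IsConj z v → IsConj z w → v * w = w * v → v ≠ w →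
      ∃ r, r * r = v ∧ r * w * r⁻¹ = w * v := by
    intro v w hv hw hc hne
    obtain ⟨g, rfl⟩ := isConj_iff.1 hv
    obtain ⟨r, h1, h2⟩ := ex (g⁻¹ * w * g) (isConj_cj' hw g)
      (by calc g⁻¹ * w * g * z = g⁻¹ * (w * (g * z * g⁻¹)) * g := by group
          _ = z * (g⁻¹ * w * g) := by rw [← hc]; group)
      (fun e => hne (by rw [← e]; group))
    refine ⟨g * r * g⁻¹, by rw [← h1]; group, ?_⟩
    calc g * r * g⁻¹ * w * (g * r * g⁻¹)⁻¹ = g * (r * (g⁻¹ * w * g) * r⁻¹) * g⁻¹ := by group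
      _ = w * (g * z * g⁻¹) := by rw [h2]; group
  refine ⟨sq, ne, ?_, ?_, exr⟩
  · intro v w a hv hw hne hc e
    obtain ⟨g, rfl⟩ := isConj_iff.1 hv
    have ha : g⁻¹ * a * g * z = z * (g⁻¹ * a * g) := by
      calc g⁻¹ * a * g * z = g⁻¹ * (a * (g * z * g⁻¹)) * g := by group
        _ = z * (g⁻¹ * a * g) := by rw [hc]; group
    have e' : g⁻¹ * w * g = g⁻¹ * a * g * (g⁻¹ * a * g) := by rw [← e]; group
    refine out (g⁻¹ * w * g) (isConj_cj' hw g) ?_ (fun e => hne (by rw [← e]; group)) ?_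
    · rw [e', mul_assoc, ha, ← mul_assoc, ha, mul_assoc]
    · rw [e']
      by_cases h : g⁻¹ * a * g ∈ H
      · exact H.mul_mem h h
      · exact mul _ _ ha ha h h
  · intro u v w hu hv hw huv huw hvw vu wu vw
    obtain ⟨r, -, hr⟩ := exr hw hv hvw.symm vw.symm
    have hvw' : IsConj z (v * w) := hr ▸ isConj_cj hv r
    obtain ⟨g, rfl⟩ := isConj_iff.1 hu
    have cm : ∀ x, g * z * g⁻¹ * x = x * (g * z * g⁻¹) → g⁻¹ * x * g * z = z * (g⁻¹ * x * g) := by
      intro x hx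
      calc g⁻¹ * x * g * z = g⁻¹ * (x * (g * z * g⁻¹)) * g := by group
        _ = z * (g⁻¹ * x * g) := by rw [← hx]; group
    have h1 := mul _ _ (cm v huv) (cm w huw)
      (out _ (isConj_cj' hv g) (cm v huv) (fun e => vu (by rw [← e]; group)))
      (out _ (isConj_cj' hw g) (cm w huw) (fun e => wu (by rw [← e]; group)))
    have e1 : g⁻¹ * v * g * (g⁻¹ * w * g) = g⁻¹ * (v * w) * g := by group
    rw [e1] at h1
    have h2 : g⁻¹ * (v * w) * g = z := by
      by_contra h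
      exact out _ (isConj_cj' hvw' g)
        (cm _ (by rw [← mul_assoc, huv, mul_assoc, huw, ← mul_assoc])) h h1
    have h3 : v * w = g * z * g⁻¹ := by rw [← h2]; group
    have hv2 : v * v = 1 := by
      obtain ⟨k, rfl⟩ := isConj_iff.1 hv
      calc k * z * k⁻¹ * (k * z * k⁻¹) = k * (z * z) * k⁻¹ := by group
        _ = 1 := by rw [sq]; group
    rw [huv, ← h3, ← mul_assoc, hv2, one_mul]

namespace ZC
variable {z : G} (h : ZC z)
include h

theorem sq' {v : G} (hv : IsConj z v) : v * v = 1 := by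
  obtain ⟨k, rfl⟩ := isConj_iff.1 hv
  calc k * z * k⁻¹ * (k * z * k⁻¹) = k * (z * z) * k⁻¹ := by group
    _ = 1 := by rw [h.sq]; group

theorem ne' {v : G} (hv : IsConj z v) : v ≠ 1 := by
  rintro rfl
  exact h.ne (isConj_one_left.1 hv)

theorem mul {v w : G} (hv : IsConj z v) (hw : IsConj z w) (hc : v * w = w * v) (hne : v ≠ w) :
    IsConj z (w * v) := by
  obtain ⟨r, -, hr⟩ := h.exr hv hw hc hne
  exact hr ▸ isConj_cj hw r

theorem exists_sylow [Finite G] {t : G} (ht : IsConj z t) (htz : t * z = z * t) :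
    ∃ S : Subgroup G, IsSylowIn 2 S ⊤ ∧ z ∈ S ∧ t ∈ S ∧ ∀ s ∈ S, s * z = z * s := by
  have tw : ∀ {v : G}, v * v = 1 → Two v := fun hv => ⟨1, by rw [pow_one, pow_two, hv]⟩
  obtain ⟨S, hS, htS⟩ := exists_isSylowIn_ge (p := 2) (H := C1 z) (tw (h.sq' ht)).isPGroup
    (zpowers_le.2 (mem_C1.2 htz))
  have hzS : zpowers z ≤ S := hS.le_of_normal (tw h.sq).isPGroup (zpowers_le.2 (mem_C1.2 rfl))
    fun g hg => mem_normalizer_of_cj_le (by
      rw [cj_zpowers, mem_C1.1 hg, mul_inv_cancel_right])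
  have hc : ∀ s ∈ S, s * z = z * s := fun s hs => mem_C1.1 (hS.le hs)
  refine ⟨S, ?_, hzS (mem_zpowers z), htS (mem_zpowers t), hc⟩
  refine isSylowIn_of_maximal le_top hS.isPGroup fun Q hQ hSQ _ => ?_
  by_contra hn
  obtain ⟨g, ⟨hgQ, hgN⟩, hgS⟩ :=
    SetLike.exists_of_lt (lt_inf_normalizer hQ (lt_of_le_not_ge hSQ hn))
  have hgz : g * z * g⁻¹ ≠ z := by
    intro e
    apply hgS
    rw [← hS.eq_inf hQ hSQ]
    exact ⟨hgQ, mem_C1.2 (by rw [← mul_inv_eq_iff_eq_mul, e])⟩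
  set u := g * z * g⁻¹ with hu
  have huc : ∀ s ∈ S, s * u = u * s := by
    intro s hs
    have := hc _ (mem_normalizer_conj' hgN hs)
    calc s * u = g * (g⁻¹ * s * g * z) * g⁻¹ := by rw [hu]; group
      _ = u * s := by rw [this, hu]; group
  have hzu : z * u = u * z := huc z (hzS (mem_zpowers z))
  obtain ⟨r, r2, hr⟩ := h.exr (IsConj.refl z) (isConj_cj (IsConj.refl z) g) hzu hgz.symm
  rw [← hu] at hr
  have hrz : r * z = z * r := by rw [← r2]; group
  have hr' : r⁻¹ * u * r = u * z := by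
    calc r⁻¹ * u * r = r⁻¹ * (u * z) * (z * r) := by
          rw [mul_assoc r⁻¹ (u * z), mul_assoc u z, ← mul_assoc z z, h.sq]; group
      _ = u * (r⁻¹ * (r * z)) := by rw [← hr, ← hrz]; group
      _ = u * z := by group
  have hSM : S ≤ C1 z ⊓ C1 u := fun s hs => ⟨mem_C1.2 (hc s hs), mem_C1.2 (huc s hs)⟩
  have hrN : r ∈ Ns (C1 z ⊓ C1 u) := by
    refine mem_normalizer_of_cj_le (cj_le_iff.2 fun x hx => ?_)
    have h1 := mem_C1.1 hx.1
    have h2 := mem_C1.1 hx.2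
    refine ⟨(C1 z).mul_mem ((C1 z).mul_mem (mem_C1.2 hrz) hx.1) ((C1 z).inv_mem (mem_C1.2 hrz)),
      mem_C1.2 ?_⟩
    calc r * x * r⁻¹ * u = r * (x * (r⁻¹ * u * r)) * r⁻¹ := by group
      _ = r * ((r⁻¹ * u * r) * x) * r⁻¹ := by
          rw [hr', ← mul_assoc x, h2, mul_assoc u, h1, ← mul_assoc u]
      _ = u * (r * x * r⁻¹) := by group
  have hS' : IsSylowIn 2 S (C1 z ⊓ Ns (C1 z ⊓ C1 u)) :=
    hS.mono (le_inf hS.le (hSM.trans le_normalizer)) inf_le_left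
  have r4 : Two r := ⟨2, by
    calc r ^ 2 ^ 2 = r * r * (r * r) := by norm_num [pow_succ, mul_assoc]
      _ = 1 := by rw [r2, h.sq]⟩
  obtain ⟨x, hx, hxr⟩ := hS'.exists_cj_le r4.isPGroup (zpowers_le.2 ⟨mem_C1.2 hrz, hrN⟩)
  have h1 := mem_normalizer_conj' hx.2 (hSM (cj_le_iff.1 hxr r (mem_zpowers r)))
  have h2 : r * u = u * r := by
    have := mem_C1.1 h1.2
    simpa [mul_assoc] using this
  apply h.ne
  rw [h2, mul_inv_cancel_right] at hr
  exact (mul_eq_left.1 hr.symm)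

end ZC

/-- The conjugates of `z` in the Sylow subgroup `S` are `z` and the elements of `t ⟨c⟩`. -/
structure DW (S : Subgroup G) (z t c : G) : Prop where
  zc : ZC z
  syl : IsSylowIn 2 S ⊤
  zS : z ∈ S
  cen : ∀ s ∈ S, s * z = z * s
  tS : t ∈ S
  cS : c ∈ S
  zC : z ∈ zpowers c
  inv : t * c * t⁻¹ = c⁻¹
  conj : ∀ f ∈ zpowers c, IsConj z (t * f)
  ne : ∀ f ∈ zpowers c, t * f ≠ z
  all : ∀ w ∈ S, IsConj z w → w ≠ z → ∃ f ∈ zpowers c, w = t * f

section Ex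
variable {S : Subgroup G} {z t a b : G} (h : ZC z) (hS : IsPGroup 2 S)
  (cen : ∀ s ∈ S, s * z = z * s)
include h

theorem inv_of_conj (ht : IsConj z t) (ha : IsConj z (t * a)) : t * a * t⁻¹ = a⁻¹ := by
  have h1 := h.sq' ht
  have h2 := h.sq' ha
  rw [inv_eq_self h1]
  calc t * a * t = t * a * (t * a) * a⁻¹ := by group
    _ = a⁻¹ := by rw [h2, one_mul]

theorem conj_zpowers (ht : IsConj z t) (ha : IsConj z (t * a)) {f : G} (hf : f ∈ zpowers a) :
    IsConj z (t * f) := by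
  have hi := inv_of_conj h ht ha
  obtain ⟨i, rfl⟩ := hf
  have key : ∀ j : ℤ, (a ^ j)⁻¹ * t = t * a ^ j := fun j => by
    rw [← inv_zpowers hi (zpow_mem (mem_zpowers a) j)]; group
  rcases Int.even_or_odd' i with ⟨j, rfl | rfl⟩
  · have := isConj_cj' ht (a ^ j)
    rwa [key, mul_assoc, ← zpow_add, ← two_mul] at this
  · have := isConj_cj' ha (a ^ j)
    rw [← mul_assoc, key] at this
    convert this using 1
    show t * a ^ (2 * j + 1) = _
    group

include hS cen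

theorem mem_zpowers_of_conj (htS : t ∈ S) (haS : a ∈ S) (ht : IsConj z t) (htz : t ≠ z)
    (ha : IsConj z (t * a)) (haz : t * a ≠ z) (h1 : a ≠ 1) : z ∈ zpowers a := by
  have hi := inv_of_conj h ht ha
  have key : ∀ u ∈ zpowers a, u ≠ 1 → u * u = 1 → t * u ≠ z → u = z := by
    intro u hu u1 uu hz
    have huS : u ∈ S := zpowers_le.2 haS hu
    have hc : t * u = u * t := by
      have := inv_zpowers hi hu
      rw [inv_eq_self uu] at this
      rw [← mul_inv_eq_iff_eq_mul, this]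
    have := h.tri (IsConj.refl z) ht (conj_zpowers h ht ha hu) (cen t htS).symm
      (cen _ (mul_mem htS huS)).symm (by rw [mul_assoc, ← hc]) htz hz
      (fun e => u1 (mul_eq_left.1 e.symm))
    rw [← cen t htS] at this
    exact mul_left_cancel this
  obtain ⟨u, hu, u1, uu⟩ := (Two.of_mem hS haS).exists_invol h1
  by_cases hz : t * u = z
  · have hc : t * a = a * t := by
      have e : t = z * u⁻¹ := by rw [← hz]; group
      rw [e, mul_assoc, comm_of_mem_zpowers (inv_mem hu) (mem_zpowers a), ← mul_assoc,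
        ← cen a haS, mul_assoc]
    have aa : a * a = 1 := by
      rw [hc, mul_inv_cancel_right] at hi
      nth_rewrite 1 [hi]
      exact inv_mul_cancel a
    rw [← key a (mem_zpowers a) h1 aa haz]
    exact mem_zpowers a
  · rw [← key u hu u1 uu hz]
    exact hu

theorem ne_zpowers (htS : t ∈ S) (haS : a ∈ S) (ht : IsConj z t) (htz : t ≠ z)
    (ha : IsConj z (t * a)) (haz : t * a ≠ z) {f : G} (hf : f ∈ zpowers a) : t * f ≠ z := by
  intro e
  by_cases h1 : a = 1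
  · rw [h1, zpowers_one_eq_bot, mem_bot] at hf
    rw [hf, mul_one] at e
    exact htz e
  have hz := mem_zpowers_of_conj h hS cen htS haS ht htz ha haz h1
  have : t ∈ zpowers a := by
    have e' : t = z * f⁻¹ := by rw [← e]; group
    rw [e']
    exact mul_mem hz (inv_mem hf)
  exact htz (invol_unique this hz (h.ne' ht) h.ne (h.sq' ht) h.sq)

theorem eq_of_sq_eq (htS : t ∈ S) (haS : a ∈ S) (hbS : b ∈ S) (ht : IsConj z t) (htz : t ≠ z)
    (ha : IsConj z (t * a)) (haz : t * a ≠ z) (hb : IsConj z (t * b)) (hbz : t * b ≠ z)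
    (e : a * a = b * b) : a = b ∨ a = z * b := by
  have ia := inv_of_conj h ht ha
  have ib := inv_of_conj h ht hb
  by_cases h1 : a * b⁻¹ = 1
  · exact Or.inl (mul_inv_eq_one.1 h1)
  right
  have e1 : t * a⁻¹ * (a * b⁻¹) = t * b⁻¹ := by group
  have hz := mem_zpowers_of_conj h hS cen (t := t * a⁻¹) (a := a * b⁻¹)
    (mul_mem htS (inv_mem haS)) (mul_mem haS (inv_mem hbS))
    (conj_zpowers h ht ha (inv_mem (mem_zpowers a)))
    (ne_zpowers h hS cen htS haS ht htz ha haz (inv_mem (mem_zpowers a)))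
    (e1 ▸ conj_zpowers h ht hb (inv_mem (mem_zpowers b)))
    (e1 ▸ ne_zpowers h hS cen htS hbS ht htz hb hbz (inv_mem (mem_zpowers b))) h1
  have hc : a * b⁻¹ * t = t * (a * b⁻¹) := by
    have ib' := inv_zpowers ib (inv_mem (mem_zpowers b))
    calc a * b⁻¹ * t = a⁻¹ * (a * a) * b⁻¹ * t := by group
      _ = a⁻¹ * b⁻¹⁻¹ * t := by rw [e]; group
      _ = t * (a * b⁻¹) := by rw [← ia, ← ib']; group
  by_cases h2 : z ∈ zpowers (a * b⁻¹ * (a * b⁻¹))
  · obtain ⟨x, hx, hxz⟩ := mem_sq_iff.1 h2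
    exact (h.nsq ht (IsConj.refl z) htz (comm_zpowers hc.symm hx).symm hxz.symm).elim
  · rcases mem_zpowers_invol h.sq
      ((Two.of_mem hS (mul_mem haS (inv_mem hbS))).gen hz h2) with h3 | h3
    · exact (h1 h3).elim
    · rw [← h3]; group

end Ex

theorem ZC.exists_dw [Finite G] {z t : G} (h : ZC z) (ht : IsConj z t) (htz : t * z = z * t)
    (hne : t ≠ z) : ∃ S c, DW S z t c := by
  obtain ⟨S, hS, hzS, htS, cen⟩ := h.exists_sylow ht htz
  let X : Set G := {a | a ∈ S ∧ IsConj z (t * a) ∧ t * a ≠ z}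
  have hzX : z ∈ X := ⟨hzS, h.mul (IsConj.refl z) ht htz.symm hne.symm,
    fun e => h.ne' ht (mul_eq_right.1 e)⟩
  obtain ⟨c, hc, hmax⟩ := Set.exists_max_image X orderOf (Set.toFinite X) ⟨z, hzX⟩
  have hP := hS.isPGroup
  have hX : ∀ a ∈ X, ∀ f ∈ zpowers a, f ∈ X := fun a ha f hf =>
    ⟨zpowers_le.2 ha.1 hf, conj_zpowers h ht ha.2.1 hf,
      ne_zpowers h hP cen htS ha.1 ht hne ha.2.1 ha.2.2 hf⟩
  have c1 : c ≠ 1 := by
    rintro rfl
    have := hmax z hzX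
    rw [orderOf_one] at this
    exact h.ne (orderOf_eq_one_iff.1 (le_antisymm this (orderOf_pos z)))
  have hzc := mem_zpowers_of_conj h hP cen htS hc.1 ht hne hc.2.1 hc.2.2 c1
  have key : ∀ n, ∀ a ∈ X, orderOf a = n → a ∈ zpowers c := by
    intro n
    induction n using Nat.strong_induction_on with
    | _ n ih =>
    intro a ha hn
    by_cases a1 : a = 1
    · rw [a1]; exact one_mem _
    have hlt := (Two.of_mem hP ha.1).orderOf_sq_lt a1
    have h2 := ih _ (hn ▸ hlt) (a * a) (hX a ha _ (sq_le a (mem_zpowers _))) rfl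
    have h3 : a * a ∈ zpowers (c * c) := by
      by_contra h3
      have := orderOf_le_of_mem ((Two.of_mem hP hc.1).gen h2 h3)
      have := hmax a ha
      omega
    obtain ⟨b, hb, e⟩ := mem_sq_iff.1 h3
    have hbX := hX c hc b hb
    rcases eq_of_sq_eq h hP cen htS ha.1 hbX.1 ht hne ha.2.1 ha.2.2 hbX.2.1 hbX.2.2 e with
      rfl | rfl
    · exact hb
    · exact mul_mem hzc hb
  refine ⟨S, c, h, hS, hzS, cen, htS, hc.1, hzc, inv_of_conj h ht hc.2.1,
    fun f hf => (hX c hc f hf).2.1, fun f hf => (hX c hc f hf).2.2, fun w hw h1 h2 => ?_⟩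
  have e : t * (t⁻¹ * w) = w := by group
  exact ⟨t⁻¹ * w, key _ _ ⟨mul_mem (inv_mem htS) hw, e.symm ▸ h1, e.symm ▸ h2⟩ rfl, e.symm⟩

end Cfsg.Lib.Rank2.Std
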