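import Cfsg.Agent.Rank2.StdA

/-!
# Standard subgroups with cyclic centraliser: fusion in the Sylow subgroup
-/

set_option autoImplicit false

namespace Cfsg.Lib.Rank2.Std

open Subgroup Cfsg.Lib.Trans Cfsg.Lib.Gold

variable {G : Type*} [Group G] {S : Subgroup G} {z t c : G}

theorem isConj_sq {a b : G} (h : IsConj a b) : IsConj (a * a) (b * b) := by
  obtain ⟨g, rfl⟩ := isConj_iff.1 h
  exact isConj_iff.2 ⟨g, by group⟩

theorem eq_one_of_isConj {a b : G} (h : IsConj a b) (ha : a = 1) : b = 1 := by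
  subst ha
  exact isConj_one_right.1 h

theorem orderOf_eq_of_conj {a b : G} (h : IsConj a b) : orderOf b = orderOf a := by
  obtain ⟨g, rfl⟩ := isConj_iff.1 h
  exact (MulAut.conj g).orderOf_eq a

theorem conj_mem_zpowers_conj {a b : G} (h : a ∈ zpowers b) (g : G) :
    g * a * g⁻¹ ∈ zpowers (g * b * g⁻¹) := by
  obtain ⟨i, rfl⟩ := h
  exact ⟨i, conj_zpow⟩

/-- Moving an element normalising a conjugate of a normal cyclic subgroup into `S`. -/
theorem exists_move [Finite G] (hS : IsSylowIn 2 S ⊤) {b b' v : G} (hb : S ≤ Ns (zpowers b))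
    (hb' : IsConj b b') (hv : Two v) (hvb : v * b' * v⁻¹ ∈ zpowers b') :
    ∃ g, g * v * g⁻¹ ∈ S ∧ g * b' * g⁻¹ ∈ zpowers b := by
  obtain ⟨k, rfl⟩ := isConj_iff.1 hb'
  have h1 : cj k⁻¹ (zpowers v) ≤ Ns (zpowers b) := by
    rw [cj_zpowers, zpowers_le]
    refine mem_normalizer_of_cj_le ?_
    rw [cj_zpowers, zpowers_le]
    have := conj_mem_zpowers_conj hvb k⁻¹
    convert this using 1 <;> group
  obtain ⟨x, hx, hxv⟩ := (hS.mono hb le_top).exists_cj_le (isPGroup_cj hv.isPGroup k⁻¹) h1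
  refine ⟨x * k⁻¹, ?_, ?_⟩
  · rw [cj_cj] at hxv
    exact cj_le_iff.1 hxv v (mem_zpowers v)
  · have := mem_normalizer_conj hx (mem_zpowers b)
    convert this using 1
    group

namespace DW
variable (h : DW S z t c) {f g s d e b : G}
include h

theorem tZ : IsConj z t := by simpa using h.conj 1 (one_mem _)
theorem tz : t ≠ z := by simpa using h.ne 1 (one_mem _)
theorem tt : t * t = 1 := h.zc.sq' h.tZ
theorem two (hs : s ∈ S) : Two s := Two.of_mem h.syl.isPGroup hs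
theorem CS (hf : f ∈ zpowers c) : f ∈ S := zpowers_le.2 h.cS hf
theorem invf (hf : f ∈ zpowers c) : t * f * t⁻¹ = f⁻¹ := inv_zpowers h.inv hf
theorem inv_mul_t (hf : f ∈ zpowers c) : f⁻¹ * t = t * f := by rw [← h.invf hf]; group
theorem mul_t (hf : f ∈ zpowers c) : f * t = t * f⁻¹ := by
  rw [← h.inv_mul_t (inv_mem hf), inv_inv]

theorem c1 : c ≠ 1 := by
  intro e
  have := h.zC
  rw [e, zpowers_one_eq_bot, mem_bot] at this
  exact h.zc.ne this

theorem c2 : c ∉ zpowers (c * c) := (h.two h.cS).not_mem_sq h.c1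

theorem tC : t ∉ zpowers c := fun ht =>
  h.ne (t⁻¹ * z) (mul_mem (inv_mem ht) h.zC) (by group)

theorem invol (hf : f ∈ zpowers c) (ff : f * f = 1) : f = 1 ∨ f = z := by
  by_cases h1 : f = 1
  · exact Or.inl h1
  · exact Or.inr (invol_unique hf h.zC h1 h.zc.ne ff h.zc.sq)

theorem z_mem (hf : f ∈ zpowers c) (f1 : f ≠ 1) : z ∈ zpowers f := by
  obtain ⟨u, hu, u1, uu⟩ := (h.two (h.CS hf)).exists_invol f1
  rcases h.invol (zpowers_le.2 hf hu) uu with h1 | h1
  · exact (u1 h1).elim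
  · exact h1 ▸ hu

theorem gen (hf : f ∈ zpowers c) (h2 : f ∉ zpowers (c * c)) : c ∈ zpowers f :=
  (h.two h.cS).gen hf h2

theorem orderOf_lt [Finite G] (hf : f ∈ zpowers (c * c)) : orderOf f < orderOf c :=
  lt_of_le_of_lt (orderOf_le_of_mem hf) ((h.two h.cS).orderOf_sq_lt h.c1)

theorem shift' (hs : s ∈ S) (hf : f ∈ zpowers c) :
    ∃ f' ∈ zpowers c, s * (t * f) * s⁻¹ = t * f' := by
  refine h.all _ (mul_mem (mul_mem hs (mul_mem h.tS (h.CS hf))) (inv_mem hs))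
    (isConj_cj (h.conj f hf) s) fun e => h.ne f hf ?_
  calc t * f = s⁻¹ * (s * (t * f) * s⁻¹) * s := by group
    _ = z := by rw [e, mul_assoc, ← h.cen s hs]; group

theorem shift (hs : s ∈ S) : ∃ f ∈ zpowers c, s * t * s⁻¹ = t * f := by
  simpa using h.shift' hs (one_mem _)

theorem norm (hs : s ∈ S) (hf : f ∈ zpowers c) : s * f * s⁻¹ ∈ zpowers c := by
  obtain ⟨f1, h1, e1⟩ := h.shift hs
  obtain ⟨f2, h2, e2⟩ := h.shift' hs hf
  have : s * f * s⁻¹ = f1⁻¹ * f2 := by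
    calc s * f * s⁻¹ = (s * t * s⁻¹)⁻¹ * (s * (t * f) * s⁻¹) := by group
      _ = f1⁻¹ * f2 := by rw [e1, e2]; group
  rw [this]
  exact mul_mem (inv_mem h1) h2

theorem norm2 (hs : s ∈ S) (hf : f ∈ zpowers (c * c)) : s * f * s⁻¹ ∈ zpowers (c * c) := by
  obtain ⟨e, he, rfl⟩ := mem_sq_iff.1 hf
  exact mem_sq_iff.2 ⟨_, h.norm hs he, by group⟩

theorem mul_conj (hs : s ∈ S) (hf : f ∈ zpowers c) : f * (s * f * s⁻¹) ∈ zpowers (c * c) := by
  by_cases h2 : f ∈ zpowers (c * c)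
  · exact mul_mem h2 (h.norm2 hs h2)
  · refine mul_mem_sq hf (h.norm hs hf) h2 fun h3 => h2 ?_
    have := h.norm2 (inv_mem hs) h3
    convert this using 1
    group

theorem le_Ns (he : e ∈ zpowers c) : S ≤ Ns (zpowers e) := by
  obtain ⟨i, rfl⟩ := he
  have key : ∀ s ∈ S, ∀ x ∈ zpowers (c ^ i), s * x * s⁻¹ ∈ zpowers (c ^ i) := by
    rintro s hs _ ⟨j, rfl⟩
    obtain ⟨k, hk⟩ := h.norm hs (mem_zpowers c)
    refine ⟨k * j, ?_⟩
    show (c ^ i) ^ (k * j) = s * (c ^ i) ^ j * s⁻¹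
    have hk' : c ^ k = s * c * s⁻¹ := hk
    rw [← conj_zpow, ← conj_zpow, ← hk']
    group
  intro s hs
  refine mem_normalizer_iff.2 fun x => ⟨key s hs x, fun hx => ?_⟩
  have := key _ (inv_mem hs) _ hx
  convert this using 1
  group

theorem sq_eq_z (hb : b ∈ S) (hz : IsConj z (b * b)) : b * b = z := by
  by_contra e
  exact h.zc.nsq (IsConj.refl z) hz (Ne.symm e) (h.cen b hb) rfl

theorem sq_one (hf : f ∈ zpowers c) (hc : g * (t * f) = t * f * g) (hg : g * g ∈ zpowers c) :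
    g * g = 1 := by
  have h1 : g * g * (t * f) = t * f * (g * g) := by rw [mul_assoc, hc, ← mul_assoc, hc, mul_assoc]
  have h2 : g * g * (g * g) = 1 := by
    rw [← mul_assoc, h.mul_t hg, mul_assoc, mul_assoc t f, mul_right_inj,
      comm_of_mem_zpowers hf hg, mul_left_inj] at h1
    nth_rewrite 1 [← h1]
    exact inv_mul_cancel _
  rcases h.invol hg h2 with h3 | h3
  · exact h3
  · exact (h.zc.nsq (h.conj f hf) (IsConj.refl z) (h.ne f hf) hc h3).elim

theorem ev_exists (hg : g ∈ S) (hf : f ∈ zpowers (c * c)) (e : g * t * g⁻¹ = t * f) :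
    ∃ f ∈ zpowers c, ∃ d ∈ S, d * t = t * d ∧ g = f * d := by
  obtain ⟨u, hu, rfl⟩ := mem_sq_iff.1 hf
  refine ⟨u⁻¹, inv_mem hu, u * g, mul_mem (h.CS hu) hg, ?_, by group⟩
  calc u * g * t = u * (g * t * g⁻¹) * g := by group
    _ = u * t * u * (u * g) := by rw [e]; group
    _ = t * (u * g) := by rw [h.mul_t hu]; group

theorem ev_sq (hb : b ∈ S) : ∃ f ∈ zpowers (c * c), b * b * t * (b * b)⁻¹ = t * f := by
  obtain ⟨s, hs, e⟩ := h.shift hb
  refine ⟨_, h.mul_conj hb hs, ?_⟩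
  calc b * b * t * (b * b)⁻¹ = b * (b * t * b⁻¹) * b⁻¹ := by group
    _ = (b * t * b⁻¹) * (b * s * b⁻¹) := by rw [e]; nth_rewrite 2 [← e]; group
    _ = t * (s * (b * s * b⁻¹)) := by rw [e]; group

theorem inv_aux (hd : d ∈ S) (dd : d * d = 1) (dt : d * t = t * d) (hf : f ∈ zpowers c)
    (e : d * c * d⁻¹ = c * (f * f)) : d * f * d⁻¹ = f⁻¹ := by
  have e1 : f * d * (f * d) = f * (d * f * d⁻¹) := by
    calc f * d * (f * d) = f * (d * f * d⁻¹) * (d * d) := by group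
      _ = _ := by rw [dd, mul_one]
  have h1 := h.sq_one (g := f * d) (mem_zpowers c) (by
    calc f * d * (t * c) = f * (d * t) * d⁻¹ * (d * c * d⁻¹) * d := by group
      _ = f * t * (c * f) * (f * d) := by rw [dt, e]; group
      _ = t * c * (f * d) := by
        rw [h.mul_t hf, ← comm_of_mem_zpowers hf (mem_zpowers c)]; group)
    (e1 ▸ mul_mem hf (h.norm hd hf))
  rw [e1] at h1
  exact eq_inv_of_mul_eq_one_right h1

theorem cent_or_inv (hd : d ∈ S) (dd : d * d = 1) (dt : d * t = t * d) :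
    (∀ f ∈ zpowers c, d * f = f * d) ∨ (∀ f ∈ zpowers c, d * f * d⁻¹ = f⁻¹) := by
  obtain ⟨e, he, h1⟩ := mem_sq_iff.1 (h.mul_conj hd (mem_zpowers c))
  have hce := comm_of_mem_zpowers (mem_zpowers c) he
  have h2 : d * c * d⁻¹ = c⁻¹ * (e * e) := by rw [← h1]; group
  by_cases h3 : e ∈ zpowers (c * c)
  · right
    have h4 := h.inv_aux hd dd dt (f := c⁻¹ * e) (mul_mem (inv_mem (mem_zpowers c)) he) (by
      rw [h2]
      calc c⁻¹ * (e * e) = c⁻¹ * (e * c) * c⁻¹ * e := by group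
        _ = c⁻¹ * (c * e) * c⁻¹ * e := by rw [hce]
        _ = c * (c⁻¹ * e * (c⁻¹ * e)) := by group)
    have h5 : c ∈ zpowers (c⁻¹ * e) := by
      refine h.gen (mul_mem (inv_mem (mem_zpowers c)) he) fun h5 => h.c2 ?_
      have := mul_mem h3 (inv_mem h5)
      convert this using 1
      group
    exact fun f hf => inv_zpowers h4 (zpowers_le.2 h5 hf)
  · left
    have h4 := h.inv_aux (d := d * t) (mul_mem hd h.tS)
      (by rw [mul_assoc, ← mul_assoc t, ← dt, mul_assoc d t t, h.tt, mul_one, dd])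
      (by rw [← mul_assoc, ← dt]) (f := e⁻¹) (inv_mem he) (by
        calc d * t * c * (d * t)⁻¹ = d * (t * c * t⁻¹) * d⁻¹ := by group
          _ = (d * c * d⁻¹)⁻¹ := by rw [h.inv]; group
          _ = (e * e)⁻¹ * c := by rw [h2]; group
          _ = c * (e⁻¹ * e⁻¹) := by
            rw [← comm_of_mem_zpowers (mem_zpowers c) (inv_mem (mul_mem he he))]; group)
    have h5 : d * e = e * d := by
      rw [← mul_inv_eq_iff_eq_mul]
      calc d * e * d⁻¹ = d * (t * e⁻¹ * t⁻¹) * d⁻¹ := by rw [h.invf (inv_mem he), inv_inv]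
        _ = d * t * e⁻¹ * (d * t)⁻¹ := by group
        _ = e := by rw [h4, inv_inv]
    exact fun f hf => comm_zpowers h5 (zpowers_le.2 (h.gen he h3) hf)

theorem odd_inv (hs : s ∈ zpowers c) (hs2 : s ∉ zpowers (c * c))
    (e : g * t * g⁻¹ = t * s) (hgg : g * g ∈ zpowers (c * c)) :
    g * g * (g * g) = 1 ∧ ∀ f ∈ zpowers c, g * f * g⁻¹ = f⁻¹ := by
  have hF := sq_le c hgg
  have hc := h.gen hs hs2
  have e1 : s * (g * s * g⁻¹) = (g * g)⁻¹ * (g * g)⁻¹ := by
    apply mul_left_cancel (a := t)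
    calc t * (s * (g * s * g⁻¹)) = (g * t * g⁻¹) * (g * s * g⁻¹) := by rw [e]; group
      _ = g * (t * s) * g⁻¹ := by group
      _ = g * g * t * (g * g)⁻¹ := by rw [← e]; group
      _ = _ := by rw [h.mul_t hF]; group
  obtain ⟨u, hu, hu2⟩ := mem_sq_iff.1 hgg
  obtain ⟨n, rfl⟩ := zpowers_le.2 hc hu
  change g * g = s ^ n * s ^ n at hu2
  have e2 : g * s * g⁻¹ = s ^ (-1 - 4 * n) := by
    calc g * s * g⁻¹ = s⁻¹ * (s * (g * s * g⁻¹)) := by group
      _ = _ := by rw [e1, hu2]; group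
  have e3 : (s ^ (4 * n)) ^ (2 * n + 1) = 1 := by
    have : g * (g * g) * g⁻¹ = g * g := by group
    rw [hu2, ← zpow_add, ← conj_zpow, e2] at this
    calc (s ^ (4 * n)) ^ (2 * n + 1) = s ^ (n + n) * ((s ^ (-1 - 4 * n)) ^ (n + n))⁻¹ := by
          rw [← zpow_mul, ← zpow_mul, ← zpow_sub]; congr 1; ring
      _ = 1 := by rw [this, mul_inv_cancel]
  have e4 : s ^ (4 * n) = 1 := by
    have := (h.two (zpow_mem (h.CS hs) (4 * n))).mem_zpowers_odd (i := 2 * n + 1) ⟨n, rfl⟩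
    rwa [e3, zpowers_one_eq_bot, mem_bot] at this
  refine ⟨by rw [hu2, ← e4]; group, fun f hf => inv_zpowers ?_ (zpowers_le.2 hc hf)⟩
  rw [e2, zpow_sub, e4]
  group

theorem regen (hs : s ∈ zpowers c) (hs2 : s ∉ zpowers (c * c)) : DW S z t s := by
  have e : zpowers s = zpowers c := le_antisymm (zpowers_le.2 hs) (zpowers_le.2 (h.gen hs hs2))
  exact ⟨h.zc, h.syl, h.zS, h.cen, h.tS, h.CS hs, e ▸ h.zC, h.invf hs, e ▸ h.conj, e ▸ h.ne,
    e ▸ h.all⟩

variable [Finite G]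

theorem mem_of_norm (he : e ∈ zpowers c) (e2 : e * e ≠ 1) (hb : b ∈ S) (hc : IsConj e b)
    (hn : t * b * t⁻¹ ∈ zpowers b) : b ∈ zpowers c := by
  obtain ⟨g, hg, hgb⟩ := exists_move h.syl (h.le_Ns he) hc (h.two h.tS) hn
  have hgC : g * b * g⁻¹ ∈ zpowers c := zpowers_le.2 he hgb
  have b2 : b * b ≠ 1 := fun e' => e2 (eq_one_of_isConj (isConj_sq hc).symm e')
  have h1 : g * t * g⁻¹ ≠ z := by
    intro e1
    have h2 := h.z_mem (mul_mem hgC hgC) fun e' => b2 (by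
      calc b * b = g⁻¹ * (g * b * g⁻¹ * (g * b * g⁻¹)) * g := by group
        _ = 1 := by rw [e']; group)
    have h3 : t ∈ zpowers (b * b) := by
      have := conj_mem_zpowers_conj h2 g⁻¹
      rw [← e1] at this
      convert this using 1 <;> group
    obtain ⟨u, hu, e3⟩ := mem_sq_iff.1 h3
    exact h.zc.nsq (IsConj.refl z) h.tZ h.tz.symm (h.cen u (zpowers_le.2 hb hu)) e3.symm
  obtain ⟨f, hf, e1⟩ := h.all _ hg (isConj_cj h.tZ g) h1
  have h2 : IsConj z (t * b) := by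
    have := isConj_cj' (h.conj _ (mul_mem hf hgC)) g
    rw [← mul_assoc t, ← e1] at this
    convert this using 1
    group
  have h3 : t * b ≠ z := by
    intro e3
    apply b2
    have : b = t * z := by rw [← e3, ← mul_assoc, h.tt, one_mul]
    rw [this, mul_assoc, ← mul_assoc z, ← h.cen t h.tS, mul_assoc t z z, h.zc.sq, mul_one, h.tt]
  obtain ⟨f', hf', e3⟩ := h.all _ (mul_mem h.tS hb) h2 h3
  rw [mul_left_cancel e3]
  exact hf'

omit [Finite G] in
theorem sq_d (hf : f ∈ zpowers c) (hd : d ∈ S) (dt : d * t = t * d)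
    (hb : f * d * (f * d) ∈ zpowers c) : d * d = 1 := by
  refine h.sq_one (one_mem _) (by simpa using dt) ?_
  have := mul_mem (inv_mem (mul_mem hf (h.norm hd hf))) hb
  convert this using 1
  group

theorem mem_of_ev_aux (he : e ∈ zpowers c) (e2 : e * e ≠ 1) (hb : b ∈ S) (hc : IsConj e b)
    (hf : f ∈ zpowers (c * c)) (ev : b * t * b⁻¹ = t * f) (hbb : b * b ∈ zpowers c) :
    b ∈ zpowers c := by
  obtain ⟨f, hf, d, hd, dt, rfl⟩ := h.ev_exists hb hf ev
  have dd := h.sq_d hf hd dt hbb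
  rcases h.cent_or_inv hd dd dt with h1 | h1
  · refine h.mem_of_norm he e2 hb hc ?_
    have : t * (f * d) * t⁻¹ = (f * d)⁻¹ := by
      calc t * (f * d) * t⁻¹ = t * f * t⁻¹ * (t * d) * t⁻¹ := by group
        _ = f⁻¹ * d := by rw [← dt, h.invf hf]; group
        _ = (f * d)⁻¹ := by rw [← h1 _ (inv_mem hf), mul_inv_rev, inv_eq_self dd]
    rw [this]
    exact inv_mem (mem_zpowers _)
  · refine (e2 (eq_one_of_isConj (isConj_sq hc).symm ?_)).elim
    calc f * d * (f * d) = f * (d * f * d⁻¹) * (d * d) := by group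
      _ = 1 := by rw [h1 f hf, dd]; group

theorem sq_mem (he : e ∈ zpowers c) (hb : b ∈ S) (hc : IsConj e b) : b * b ∈ zpowers c := by
  obtain ⟨n, hn⟩ := h.two (h.CS he)
  induction n generalizing e b with
  | zero =>
    rw [eq_one_of_isConj hc (by simpa using hn), mul_one]
    exact one_mem _
  | succ n ih =>
    by_cases h4 : e * e * (e * e) = 1
    · rcases h.invol (mul_mem he he) h4 with h2 | h2
      · rw [eq_one_of_isConj (isConj_sq hc) h2]
        exact one_mem _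
      · rw [h.sq_eq_z hb (h2 ▸ isConj_sq hc)]
        exact h.zC
    · obtain ⟨f, hf, ev⟩ := h.ev_sq hb
      exact h.mem_of_ev_aux (mul_mem he he) h4 (mul_mem hb hb) (isConj_sq hc) hf ev
        (ih (mul_mem he he) (mul_mem hb hb) (isConj_sq hc)
          (by rw [← pow_two, ← pow_mul, ← pow_succ', hn]))

theorem mem_of_ev (he : e ∈ zpowers c) (e2 : e * e ≠ 1) (hb : b ∈ S) (hc : IsConj e b)
    (hf : f ∈ zpowers (c * c)) (ev : b * t * b⁻¹ = t * f) : b ∈ zpowers c :=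
  h.mem_of_ev_aux he e2 hb hc hf ev (h.sq_mem he hb hc)

end DW

/-- The quasi-dihedral configuration `⟨t, x⟩`. -/
structure SD (S : Subgroup G) (z t c x y : G) : Prop extends DW S z t c where
  xS : x ∈ S
  xx : x * x = z
  xt : x * t * x⁻¹ = t * c
  xc : x * c * x⁻¹ = c⁻¹
  yC : y ∈ zpowers c
  yy : y * y = z
  yx : IsConj y x

theorem DW.exists_sd [Finite G] (h : DW S z t c) {A : Subgroup G} (hA : t ∈ Ns A) (hz : z ∈ Cs A)
    (z1 : ∃ e ∈ zpowers c, e ∈ A ∧ e ∉ Cs A)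
    (z2 : ∀ e ∈ S, e ∈ A → e ∉ Cs A → e * e ∈ Cs A →
      ∃ a ∈ A, a * e * a⁻¹ ∈ S ∧ e⁻¹ * (a * e * a⁻¹) ∉ Cs A) :
    ∃ c x y, SD S z t c x y ∧ x ∈ A ∧ c ∈ A := by
  have inv : ∀ f ∈ zpowers c, f * f = 1 → f ∈ Cs A := fun f hf ff => by
    rcases h.invol hf ff with h1 | h1 <;> rw [h1]
    exacts [one_mem _, hz]
  obtain ⟨e, he, heA, h1, h2⟩ : ∃ e ∈ zpowers c, e ∈ A ∧ e ∉ Cs A ∧ e * e ∈ Cs A := by
    obtain ⟨e, he, heA, h1⟩ := z1
    obtain ⟨n, hn⟩ := h.two (h.CS he)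
    induction n generalizing e with
    | zero => exact (h1 (by rw [show e = 1 by simpa using hn]; exact one_mem _)).elim
    | succ n ih =>
      by_cases h2 : e * e ∈ Cs A
      · exact ⟨e, he, heA, h1, h2⟩
      · exact ih _ (mul_mem he he) (mul_mem heA heA) h2
          (by rw [← pow_two, ← pow_mul, ← pow_succ', hn])
  obtain ⟨a, ha, hx, h3⟩ := z2 e (h.CS he) heA h1 h2
  have hxA : a * e * a⁻¹ ∈ A := mul_mem (mul_mem ha heA) (inv_mem ha)
  have hc : IsConj e (a * e * a⁻¹) := isConj_cj (IsConj.refl e) a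
  have xx : a * e * a⁻¹ * (a * e * a⁻¹) = e * e := by
    calc a * e * a⁻¹ * (a * e * a⁻¹) = a * (e * e) * a⁻¹ := by group
      _ = e * e := by rw [mem_Cs.1 h2 a ha]; group
  generalize a * e * a⁻¹ = x at hx h3 hxA hc xx
  have e2 : e * e ≠ 1 := fun e2 => h1 (inv e he e2)
  obtain ⟨s, hs, es⟩ := h.shift hx
  have hs2 : s ∉ zpowers (c * c) := by
    intro hs2
    have hxC := h.mem_of_ev he e2 hx hc hs2 es
    refine h3 (inv _ (mul_mem (inv_mem he) hxC) ?_)
    calc e⁻¹ * x * (e⁻¹ * x) = e⁻¹ * (x * e⁻¹) * x := by group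
      _ = e⁻¹ * e⁻¹ * (x * x) := by rw [comm_of_mem_zpowers hxC (inv_mem he)]; group
      _ = 1 := by rw [xx]; group
  obtain ⟨h4, h5⟩ := h.odd_inv hs hs2 es (xx ▸ sq_mem_sq he)
  have ee : e * e = z := (h.invol (mul_mem he he) (xx ▸ h4)).resolve_left e2
  refine ⟨s, x, e, ⟨h.regen hs hs2, hx, xx.trans ee, es, h5 s hs,
    zpowers_le.2 (h.gen hs hs2) he, ee, hc⟩, hxA, ?_⟩
  have : s = t⁻¹ * x * t * x⁻¹ := by
    calc s = t⁻¹ * (t * s) := by group
      _ = _ := by rw [← es]; group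
  rw [this]
  exact mul_mem (mem_normalizer_conj' hA hxA) (inv_mem hxA)

end Cfsg.Lib.Rank2.Std
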