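import Cfsg.Agent.Rank2.StdB
import Cfsg.Agent.Trans.Tight
import Cfsg.Agent.Gold.PrBase

/-!
# Standard subgroups with cyclic centraliser: a strongly closed quasi-dihedral subgroup
-/

set_option autoImplicit false

namespace Cfsg.Lib.Rank2.Std

open Subgroup Cfsg.Lib.Trans Cfsg.Lib.Gold

variable {G : Type*} [Group G] {S : Subgroup G} {z t c x y : G}

/-- The quasi-dihedral group `⟨t x, t⟩`. -/
abbrev qd (t x : G) : Subgroup G := zpowers (t * x) ⊔ zpowers t

namespace SD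
variable (h : SD S z t c x y) {f g s d e b b' u : G}
include h

theorem xinv (hf : f ∈ zpowers c) : x * f * x⁻¹ = f⁻¹ := inv_zpowers h.xc hf

theorem inv_mul_x (hf : f ∈ zpowers c) : f⁻¹ * x = x * f := by rw [← h.xinv hf]; group

theorem mul_x (hf : f ∈ zpowers c) : f * x = x * f⁻¹ := by
  rw [← h.inv_mul_x (inv_mem hf), inv_inv]

theorem xinv' (hf : f ∈ zpowers c) : x⁻¹ * f * x = f⁻¹ := by rw [mul_assoc, h.mul_x hf]; group

theorem z2 : z ∈ zpowers (c * c) := h.yy ▸ sq_mem_sq h.yC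

theorem xt' : x⁻¹ * t * x = t * c := by
  calc x⁻¹ * t * x = (x * x)⁻¹ * (x * t * x⁻¹) * (x * x) := by group
    _ = t * c := by rw [h.xt, h.xx, mul_assoc, h.cen _ (mul_mem h.tS h.cS)]; group

theorem tx : t * x * t⁻¹ = x * c⁻¹ := by
  calc t * x * t⁻¹ = x * (x⁻¹ * t * x) * t⁻¹ := by group
    _ = x * (t * t)⁻¹ * t * (t * (t * c * t⁻¹)) := by rw [h.xt']; group
    _ = x * c⁻¹ := by rw [h.inv]; group

theorem gS : t * x ∈ S := mul_mem h.tS h.xS

theorem gcomm (hf : f ∈ zpowers c) : t * x * f = f * (t * x) := by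
  rw [mul_assoc, ← h.inv_mul_x hf, ← mul_assoc, ← h.mul_t hf, mul_assoc]

theorem gg : t * x * (t * x) = c * z := by
  calc t * x * (t * x) = t * (x * t * x⁻¹) * (x * x) := by group
    _ = c * z := by rw [h.xt, h.xx, ← mul_assoc, h.tt, one_mul]

theorem tg : t * (t * x) * t⁻¹ = z * (t * x)⁻¹ := by
  rw [← mul_assoc, h.tt, one_mul, ← h.xx]
  group

theorem cz : c * z ∉ zpowers (c * c) := fun h1 => h.c2 (by
  have := mul_mem h1 (inv_mem h.z2)
  rwa [mul_inv_cancel_right] at this)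

theorem czC : c * z ∈ zpowers c := mul_mem (mem_zpowers c) h.zC

theorem C_le : zpowers c ≤ zpowers (t * x) :=
  zpowers_le.2 (sq_le _ (h.gg ▸ h.gen h.czC h.cz))

theorem mem_g (hu : u ∈ zpowers (t * x)) : u ∈ zpowers c ∨ ∃ f ∈ zpowers c, u = t * x * f := by
  have hle : zpowers (t * x * (t * x)) ≤ zpowers c := zpowers_le.2 (h.gg ▸ h.czC)
  by_cases h2 : u ∈ zpowers (t * x * (t * x))
  · exact Or.inl (hle h2)
  · obtain ⟨_, ⟨j, rfl⟩, rfl⟩ := exists_odd hu h2
    refine Or.inr ⟨(t * x * (t * x)) ^ j, hle (zpow_mem (mem_zpowers _) j), ?_⟩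
    rw [sq_zpow]
    group

theorem y2 : y * y ≠ 1 := h.yy ▸ h.zc.ne

theorem cc : c * c ≠ 1 := by
  intro e
  have := h.z2
  rw [e, zpowers_one_eq_bot, mem_bot] at this
  exact h.zc.ne this

theorem xC : x ∉ zpowers c := fun hx => h.y2 (by
  have := h.xinv h.yC
  rw [comm_of_mem_zpowers hx h.yC, mul_inv_cancel_right] at this
  nth_rewrite 1 [this]
  exact inv_mul_cancel y)

theorem conj_xf (hf : f ∈ zpowers c) : IsConj y (x * f) := by
  by_cases h2 : f ∈ zpowers (c * c)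
  · obtain ⟨e, he, rfl⟩ := mem_sq_iff.1 h2
    have := isConj_cj' h.yx e
    rwa [h.inv_mul_x he, mul_assoc] at this
  · obtain ⟨e, he, e1⟩ := mem_sq_iff.1 (mul_mem_sq (mem_zpowers c) hf h.c2 h2)
    have := isConj_cj' (isConj_cj h.yx t) e
    rw [h.tx, ← mul_assoc, h.inv_mul_x he, mul_assoc x,
      comm_of_mem_zpowers he (inv_mem (mem_zpowers c))] at this
    convert this using 1
    calc x * f = x * c⁻¹ * (c * f) := by group
      _ = _ := by rw [e1]; group

theorem conj_y (he : e ∈ zpowers c) (ee : e * e = z) : IsConj y e := by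
  have h1 : y⁻¹ * e * (y⁻¹ * e) = 1 := by
    calc y⁻¹ * e * (y⁻¹ * e) = y⁻¹ * (e * y⁻¹) * e := by group
      _ = (y * y)⁻¹ * (e * e) := by rw [comm_of_mem_zpowers he (inv_mem h.yC)]; group
      _ = 1 := by rw [ee, h.yy, inv_mul_cancel]
  rcases h.invol (mul_mem (inv_mem h.yC) he) h1 with h2 | h2
  · rw [← inv_mul_eq_one.1 h2]
  · have : e = t * y * t⁻¹ := by
      rw [h.invf h.yC, inv_mul_eq_iff_eq_mul.1 h2, eq_inv_iff_mul_eq_one, mul_assoc,
        ← h.cen y (h.CS h.yC), ← mul_assoc, h.yy, h.zc.sq]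
    rw [this]
    exact isConj_cj (IsConj.refl y) t

theorem sq_of_conj_y (hb : b ∈ S) (hc : IsConj y b) : b * b = z :=
  h.sq_eq_z hb (h.yy ▸ isConj_sq hc)

variable [Finite G]

theorem comm_eq (hb : b ∈ S) (hb' : b' ∈ S) (hc : IsConj y b) (hc' : IsConj y b')
    (e : b' * b = b * b') : b' = b ∨ b' = b * z := by
  obtain ⟨g, h1, h2⟩ := exists_move h.syl (h.le_Ns h.yC) hc (h.two hb')
    (by rw [e, mul_inv_cancel_right]; exact mem_zpowers b)
  have h2C : g * b * g⁻¹ ∈ zpowers c := zpowers_le.2 h.yC h2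
  have s1 := h.sq_of_conj_y h1 (isConj_cj hc' g)
  have s2 := h.sq_of_conj_y (h.CS h2C) (isConj_cj hc g)
  have ec : g * b' * g⁻¹ * (g * b * g⁻¹) = g * b * g⁻¹ * (g * b' * g⁻¹) := by
    calc g * b' * g⁻¹ * (g * b * g⁻¹) = g * (b' * b) * g⁻¹ := by group
      _ = _ := by rw [e]; group
  have h1C : g * b' * g⁻¹ ∈ zpowers c := by
    obtain ⟨s, hs, es⟩ := h.shift h1
    by_cases hs2 : s ∈ zpowers (c * c)
    · exact h.mem_of_ev h.yC h.y2 h1 (isConj_cj hc' g) hs2 es
    · have := (h.odd_inv hs hs2 es (s1 ▸ h.z2)).2 _ h2C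
      rw [ec, mul_inv_cancel_right] at this
      refine (h.zc.ne ?_).elim
      rw [← s2]
      nth_rewrite 1 [this]
      exact inv_mul_cancel _
  have hgz : g * z * g⁻¹ = z := by
    calc g * z * g⁻¹ = g * (b * b) * g⁻¹ := by rw [h.sq_of_conj_y hb hc]
      _ = z := by rw [← s2]; group
  have h3 : (g * b * g⁻¹)⁻¹ * (g * b' * g⁻¹) * ((g * b * g⁻¹)⁻¹ * (g * b' * g⁻¹)) = 1 := by
    generalize g * b * g⁻¹ = p at *
    generalize g * b' * g⁻¹ = q at *
    calc p⁻¹ * q * (p⁻¹ * q) = p⁻¹ * (q * p⁻¹) * q := by group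
      _ = (p * p)⁻¹ * (q * q) := by rw [comm_of_mem_zpowers h1C (inv_mem h2C)]; group
      _ = 1 := by rw [s1, s2, inv_mul_cancel]
  rcases h.invol (mul_mem (inv_mem h2C) h1C) h3 with h4 | h4
  · left
    calc b' = b * g⁻¹ * ((g * b * g⁻¹)⁻¹ * (g * b' * g⁻¹)) * g := by group
      _ = b := by rw [h4]; group
  · right
    calc b' = b * g⁻¹ * ((g * b * g⁻¹)⁻¹ * (g * b' * g⁻¹)) * g := by group
      _ = b * g⁻¹ * (g * z * g⁻¹) * g := by rw [h4, hgz]
      _ = b * z := by group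

theorem mem_Q (he : e ∈ zpowers c) (e2 : e * e ≠ 1) (hb : b ∈ S) (hc : IsConj e b) :
    b ∈ zpowers c ∨ ∃ f ∈ zpowers c, b = x * f := by
  obtain ⟨s, hs, es⟩ := h.shift hb
  by_cases hs2 : s ∈ zpowers (c * c)
  · exact Or.inl (h.mem_of_ev he e2 hb hc hs2 es)
  right
  have hbb := h.sq_mem he hb hc
  have hbb2 : b * b ∈ zpowers (c * c) := by
    by_contra h2
    have h3 := orderOf_le_of_mem (h.gen hbb h2)
    rw [orderOf_eq_of_conj (isConj_sq hc)] at h3
    exact absurd (h.orderOf_lt (sq_mem_sq he)) (not_lt.2 h3)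
  obtain ⟨b4, hbi⟩ := h.odd_inv hs hs2 es hbb2
  have bb : b * b = z := (h.invol hbb b4).resolve_left
    fun e' => e2 (eq_one_of_isConj (isConj_sq hc).symm e')
  have ee : e * e = z := (h.invol (mul_mem he he)
    (eq_one_of_isConj (isConj_sq (isConj_sq hc)).symm b4)).resolve_left e2
  have hyb : IsConj y b := (h.conj_y he ee).trans hc
  obtain ⟨f, hf, d, hd, dt, ed⟩ := h.ev_exists (g := x⁻¹ * b) (mul_mem (inv_mem h.xS) hb)
    (mul_mem_sq (mem_zpowers c) (inv_mem hs) h.c2 fun h3 => hs2 (by simpa using inv_mem h3)) (by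
      calc x⁻¹ * b * t * (x⁻¹ * b)⁻¹ = x⁻¹ * (b * t * b⁻¹) * x := by group
        _ = (x⁻¹ * t * x) * (x⁻¹ * s * x) := by rw [es]; group
        _ = t * (c * s⁻¹) := by rw [h.xt', h.xinv' hs, mul_assoc])
  have eb : b = x * f * d := by rw [mul_assoc, ← ed]; group
  have hp := h.conj_xf hf
  have hpS : x * f ∈ S := mul_mem h.xS (h.CS hf)
  have pp := h.sq_of_conj_y hpS hp
  by_cases d1 : d = 1
  · exact ⟨f, hf, by rw [eb, d1, mul_one]⟩
  generalize hq : x * f = p at eb hp hpS pp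
  have hi : p⁻¹ * d * p⁻¹⁻¹ = d⁻¹ := by
    calc p⁻¹ * d * p⁻¹⁻¹ = (p * p)⁻¹ * (p * d * (p * d)) * d⁻¹ := by group
      _ = d⁻¹ := by rw [← eb, bb, pp]; group
  obtain ⟨v, hv, v1, vv⟩ := (h.two hd).exists_invol d1
  have hvS : v ∈ S := zpowers_le.2 hd hv
  have hpv : p * v * p = p * (p * v) := by
    have := inv_zpowers hi hv
    rw [inv_eq_self vv] at this
    calc p * v * p = p * p * (p⁻¹ * v * p⁻¹⁻¹) := by group
      _ = _ := by rw [this, mul_assoc]
  have fin : IsConj y (p * v) → v = z := fun h1 => by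
    rcases h.comm_eq hpS (mul_mem hpS hvS) hp h1 hpv with h2 | h2
    · exact (v1 (mul_eq_left.1 h2)).elim
    · exact mul_left_cancel h2
  by_cases h2 : v ∈ zpowers (d * d)
  · obtain ⟨u, hu, eu⟩ := mem_sq_iff.1 h2
    have h3 : IsConj y (p * v) := by
      have h4 := isConj_cj' hp u
      have h5 := inv_zpowers hi (inv_mem hu)
      convert h4 using 1
      calc p * v = p * u⁻¹⁻¹ * u := by rw [eu]; group
        _ = u⁻¹ * p * u := by rw [← h5]; group
    exact (h.zc.nsq h.tZ (IsConj.refl z) h.tz (comm_zpowers dt.symm hu).symm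
      (eu.symm.trans (fin h3))).elim
  · rcases mem_zpowers_invol vv ((h.two hd).gen hv h2) with h3 | h3
    · exact (d1 h3).elim
    · refine ⟨f * z, mul_mem hf h.zC, ?_⟩
      rw [← mul_assoc, hq, eb, h3, fin (by rw [← h3, ← eb]; exact hyb)]

theorem conj_g (hs : s ∈ S) : s * (t * x) * s⁻¹ ∈ zpowers (t * x) := by
  obtain ⟨f1, h1, e1⟩ := h.shift hs
  rcases h.mem_Q h.yC h.y2 (mul_mem (mul_mem hs h.xS) (inv_mem hs)) (isConj_cj h.yx s) with
    h2 | ⟨f2, h2, e2⟩
  · refine (h.xC ?_).elim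
    have := h.norm (inv_mem hs) h2
    convert this using 1
    group
  · have : s * (t * x) * s⁻¹ = t * x * (f1⁻¹ * f2) := by
      calc s * (t * x) * s⁻¹ = (s * t * s⁻¹) * (s * x * s⁻¹) := by group
        _ = t * (f1 * x) * f2 := by rw [e1, e2]; group
        _ = _ := by rw [h.mul_x h1]; group
    rw [this]
    exact mul_mem (mem_zpowers _) (h.C_le (mul_mem (inv_mem h1) h2))

theorem le_Ns_g : S ≤ Ns (zpowers (t * x)) := fun s hs =>
  mem_normalizer_of_cj_le (by rw [cj_zpowers, zpowers_le]; exact h.conj_g hs)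

omit [Finite G] in
theorem sq_gf (hf : f ∈ zpowers c) : t * x * f * (t * x * f) = c * z * (f * f) := by
  rw [mul_assoc (t * x), ← mul_assoc f, ← h.gcomm hf, ← h.gg]
  group

theorem mem_xC (hf : f ∈ zpowers c) (hb : b ∈ S) (hc : IsConj (t * x * f) b) :
    IsConj y (t * b) := by
  have hu := h.sq_gf hf
  have huC : c * z * (f * f) ∈ zpowers c := mul_mem h.czC (mul_mem hf hf)
  have hu2 : c * z * (f * f) ∉ zpowers (c * c) := fun h1 => h.cz (by
    have := mul_mem h1 (inv_mem (sq_mem_sq hf))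
    rwa [mul_inv_cancel_right] at this)
  have hcu := h.gen huC hu2
  have hc2 : IsConj (c * z * (f * f)) (b * b) := hu ▸ isConj_sq hc
  have big : ∀ w, IsConj b w → w * w ∉ zpowers (c * c) := fun w hw h1 => by
    have h2 := orderOf_le_of_mem hcu
    rw [← orderOf_eq_of_conj (hc2.trans (isConj_sq hw))] at h2
    exact absurd (h.orderOf_lt h1) (not_lt.2 h2)
  have hbb : b * b ∈ zpowers c := by
    obtain ⟨f', hf', ev⟩ := h.ev_sq hb
    refine h.mem_of_ev huC (fun e => h.cc ?_) (mul_mem hb hb) hc2 hf' ev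
    rcases mem_zpowers_invol e hcu with h1 | h1
    · rw [h1, mul_one]
    · rw [h1, e]
  have hCb : zpowers c ≤ zpowers (b * b) := zpowers_le.2 (h.gen hbb (big b (IsConj.refl b)))
  have bc : ∀ w ∈ zpowers c, b * w = w * b := fun w hw =>
    comm_of_mem_zpowers (mem_zpowers b) (sq_le b (hCb hw))
  obtain ⟨s, hs, es⟩ := h.shift hb
  have hs2 : s ∉ zpowers (c * c) := by
    intro hs2
    obtain ⟨f1, h1, d, hd, dt, ed⟩ := h.ev_exists hb hs2 es
    have dd := h.sq_d h1 hd dt (ed ▸ hbb)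
    have h2 : f1 * d = d * f1 := by
      have := bc f1 h1
      rw [ed, mul_assoc] at this
      exact (mul_left_cancel this).symm
    refine big b (IsConj.refl b) ?_
    have : b * b = f1 * f1 := by
      calc b * b = f1 * (d * f1) * d := by rw [ed]; group
        _ = f1 * f1 * (d * d) := by rw [← h2]; group
        _ = _ := by rw [dd, mul_one]
    rw [this]
    exact sq_mem_sq h1
  obtain ⟨f1, h1, d, hd, dt, ed⟩ := h.ev_exists (g := (t * x)⁻¹ * b) (mul_mem (inv_mem h.gS) hb)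
    (mul_mem_sq (mem_zpowers c) hs h.c2 hs2) (by
      calc (t * x)⁻¹ * b * t * ((t * x)⁻¹ * b)⁻¹ = (t * x)⁻¹ * (b * t * b⁻¹) * (t * x) := by group
        _ = (t * x)⁻¹ * t * (s * (t * x)) := by rw [es]; group
        _ = (x⁻¹ * t * x) * s := by rw [← h.gcomm hs]; group
        _ = t * (c * s) := by rw [h.xt', mul_assoc])
  have eb : b = t * x * f1 * d := by rw [mul_assoc, ← ed]; group
  have hpS : t * x * f1 ∈ S := mul_mem h.gS (h.CS h1)
  have pc : ∀ w ∈ zpowers c, t * x * f1 * w = w * (t * x * f1) := fun w hw => by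
    rw [mul_assoc, comm_of_mem_zpowers h1 hw, ← mul_assoc, h.gcomm hw, mul_assoc]
  have pp : t * x * f1 * (t * x * f1) ∈ zpowers c :=
    h.sq_gf h1 ▸ mul_mem h.czC (mul_mem h1 h1)
  have tp : t * (t * x * f1) * t⁻¹ = z * (t * x * f1)⁻¹ := by
    calc t * (t * x * f1) * t⁻¹ = t * (t * x) * t⁻¹ * (t * f1 * t⁻¹) := by group
      _ = z * (f1 * (t * x))⁻¹ := by rw [h.tg, h.invf h1]; group
      _ = _ := by rw [h.gcomm h1]
  generalize t * x * f1 = p at eb hpS pc pp tp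
  have hw : p⁻¹ * d * p * d ∈ zpowers c := by
    have := mul_mem (inv_mem pp) hbb
    rw [eb] at this
    convert this using 1
    group
  have hn : t * b * t⁻¹ ∈ zpowers b := by
    have : t * b * t⁻¹ = z * (p⁻¹ * d * p * d) * b⁻¹ := by
      calc t * b * t⁻¹ = t * p * t⁻¹ * (t * d) * t⁻¹ := by rw [eb]; group
        _ = z * p⁻¹ * d := by rw [tp, ← dt]; group
        _ = _ := by rw [eb]; group
    rw [this]
    exact mul_mem (sq_le b (hCb (mul_mem h.zC hw))) (inv_mem (mem_zpowers b))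
  have hz : zpowers (t * x * f) = zpowers (t * x) := by
    refine le_antisymm (zpowers_le.2 (mul_mem (mem_zpowers _) (h.C_le hf))) (zpowers_le.2 ?_)
    have := mul_mem (mem_zpowers (t * x * f))
      (inv_mem (sq_le _ (hu ▸ zpowers_le.2 hcu hf : f ∈ zpowers (t * x * f * (t * x * f)))))
    rwa [mul_inv_cancel_right] at this
  obtain ⟨g, g1, g2⟩ := exists_move h.syl (hz ▸ h.le_Ns_g) hc (h.two h.tS) hn
  rw [hz] at g2
  rcases h.mem_g g2 with g3 | ⟨f5, h5, e5⟩
  · exact (big _ (isConj_cj (IsConj.refl b) g) (sq_mem_sq g3)).elim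
  have g4 : g * t * g⁻¹ ≠ z := by
    intro e1
    have h6 : g * b * g⁻¹ * (g * b * g⁻¹) ∈ zpowers c := by
      rw [e5, h.sq_gf h5]
      exact mul_mem h.czC (mul_mem h5 h5)
    have h7 := h.z_mem h6 fun e' => big _ (isConj_cj (IsConj.refl b) g) (e' ▸ one_mem _)
    have h8 : t ∈ zpowers (b * b) := by
      have := conj_mem_zpowers_conj h7 g⁻¹
      rw [← e1] at this
      convert this using 1 <;> group
    exact h.tC (zpowers_le.2 hbb h8)
  obtain ⟨f4, h4, e4⟩ := h.all _ g1 (isConj_cj h.tZ g) g4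
  have := isConj_cj' (h.conj_xf (mul_mem h4 h5)) g
  convert this using 1
  calc t * b = g⁻¹ * ((g * t * g⁻¹) * (g * b * g⁻¹)) * g := by group
    _ = g⁻¹ * (t * (f4 * (t * x)) * f5) * g := by rw [e4, e5]; group
    _ = g⁻¹ * (t * t * x * f4 * f5) * g := by rw [← h.gcomm h4]; group
    _ = _ := by rw [h.tt]; group

omit [Finite G] h in
theorem t_mem : t ∈ qd t x := mem_sup_right (mem_zpowers t)

omit [Finite G] h in
theorem x_mem : x ∈ qd t x := by
  have := mul_mem (inv_mem (t_mem (t := t) (x := x))) (mem_sup_left (mem_zpowers (t * x)))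
  rwa [inv_mul_cancel_left] at this

omit [Finite G] in
theorem C_mem (hf : f ∈ zpowers c) : f ∈ qd t x := mem_sup_left (h.C_le hf)

omit [Finite G] in
theorem qd_le : qd t x ≤ S := sup_le (zpowers_le.2 h.gS) (zpowers_le.2 h.tS)

theorem mem_qd' (hu : u ∈ qd t x) : u ∈ zpowers (t * x) ∨ u * t ∈ zpowers (t * x) := by
  obtain ⟨v, hv, w, hw, rfl⟩ := exists_mul_of_mem_sup (zpowers_le.2 (h.le_Ns_g h.tS)) hu
  rcases mem_zpowers_invol h.tt hw with rfl | e
  · exact Or.inl (by rwa [mul_one])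
  · exact Or.inr (by rwa [e, mul_assoc, h.tt, mul_one])

theorem mem_qd (hu : u ∈ qd t x) :
    ∃ f ∈ zpowers c, u = f ∨ u = t * f ∨ u = x * f ∨ u = t * x * f := by
  rcases h.mem_qd' hu with h1 | h1 <;> rcases h.mem_g h1 with h2 | ⟨f, hf, e⟩
  · exact ⟨u, h2, Or.inl rfl⟩
  · exact ⟨f, hf, Or.inr (Or.inr (Or.inr e))⟩
  · refine ⟨(u * t)⁻¹, inv_mem h2, Or.inr (Or.inl ?_)⟩
    rw [← h.mul_t h2, mul_assoc, h.tt, mul_one]
  · refine ⟨c⁻¹ * f⁻¹, mul_mem (inv_mem (mem_zpowers c)) (inv_mem hf), Or.inr (Or.inr (Or.inl ?_))⟩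
    calc u = u * t * t⁻¹ := by group
      _ = t * x * t⁻¹ * (t * f * t⁻¹) := by rw [e]; group
      _ = _ := by rw [h.tx, h.invf hf, mul_assoc]

theorem scl : SCl (qd t x) := by
  have hQ : ∀ {b}, (b ∈ zpowers c ∨ ∃ f ∈ zpowers c, b = x * f) → b ∈ qd t x := by
    rintro b (h1 | ⟨f, hf, rfl⟩)
    · exact h.C_mem h1
    · exact mul_mem x_mem (h.C_mem hf)
  have hZ : ∀ {b}, b ∈ S → IsConj z b → b ∈ qd t x := by
    intro b hb hc
    by_cases e : b = z
    · exact e ▸ h.C_mem h.zC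
    · obtain ⟨f, hf, rfl⟩ := h.all b hb hc e
      exact mul_mem t_mem (h.C_mem hf)
  refine scl_of_sylowIn h.syl h.qd_le fun u hu g hg => ?_
  obtain ⟨f, hf, e | e | e | e⟩ := h.mem_qd hu
  · subst e
    by_cases ff : u * u = 1
    · rcases h.invol hf ff with e | e
      · rw [e, mul_one, mul_inv_cancel]
        exact one_mem _
      · exact hZ hg (isConj_cj (e ▸ IsConj.refl u) g)
    · exact hQ (h.mem_Q hf ff hg (isConj_cj (IsConj.refl u) g))
  · exact hZ hg (isConj_cj (e ▸ h.conj f hf) g)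
  · exact hQ (h.mem_Q h.yC h.y2 hg (isConj_cj (e ▸ h.conj_xf hf) g))
  · have h1 := hQ (h.mem_Q h.yC h.y2 (mul_mem h.tS hg)
      (h.mem_xC hf hg (isConj_cj (e ▸ IsConj.refl u) g)))
    have := mul_mem (inv_mem t_mem) h1
    rwa [inv_mul_cancel_left] at this

theorem isQuasiDihedral : IsQuasiDihedral (qd t x) := by
  obtain ⟨k, hk⟩ := h.two h.gS
  obtain ⟨n, -, hn⟩ := (Nat.dvd_prime_pow Nat.prime_two).1 (orderOf_dvd_of_pow_eq_one hk)
  have g1 : t * x ≠ 1 := fun e => h.cz (by rw [← h.gg, e, mul_one]; exact one_mem _)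
  have hy : orderOf y = 2 ^ 2 := by
    refine orderOf_eq_prime_pow (n := 1) (by rw [pow_one, pow_two]; exact h.y2) ?_
    calc y ^ 2 ^ (1 + 1) = y * y * (y * y) := by norm_num [pow_succ, mul_assoc]
      _ = 1 := by rw [h.yy, h.zc.sq]
  have h3 : 3 ≤ n := by
    have h1 := (h.two h.gS).orderOf_sq_lt g1
    have h2 := orderOf_le_of_mem (zpowers_le.2 (h.gen h.czC h.cz) h.yC)
    rw [h.gg, hn] at h1
    rw [hy] at h2
    exact (Nat.pow_lt_pow_iff_right one_lt_two).1 (h2.trans_lt h1)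
  have htg : t ∉ zpowers (t * x) := fun ht => h.c1 (by
    have := h.tx
    rw [comm_of_mem_zpowers ht (mem_zpowers _) |> fun e : t * (t * x) = t * x * t =>
      mul_left_cancel (e.trans (mul_assoc t x t)), mul_inv_cancel_right] at this
    simpa using this)
  have hidx : (zpowers (t * x)).relIndex (qd t x) = 2 := by
    refine index_eq_two_iff.2 ⟨⟨t, t_mem⟩, fun b => ?_⟩
    simp only [mem_subgroupOf, coe_mul]
    rcases h.mem_qd' b.2 with h1 | h1
    · exact Or.inr ⟨h1, fun h2 => htg (by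
        have := mul_mem (inv_mem h1) h2
        rwa [inv_mul_cancel_left] at this)⟩
    · exact Or.inl ⟨h1, fun h2 => htg (by
        have := mul_mem (inv_mem h2) h1
        rwa [inv_mul_cancel_left] at this)⟩
  refine ⟨n, h3, ?_, ⟨t * x, mem_sup_left (mem_zpowers _)⟩, ⟨t, t_mem⟩, ?_, ?_, ?_⟩
  · rw [← card_mul_relIndex (le_sup_left : zpowers (t * x) ≤ qd t x), hidx, Nat.card_zpowers, hn,
      pow_succ]
  · rw [← hn, orderOf_mk]
  · rw [orderOf_mk]
    exact orderOf_eq_prime (by rw [pow_two, h.tt]) (h.zc.ne' h.tZ)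
  · apply Subtype.ext
    show t * (t * x) * t⁻¹ = (t * x) ^ (2 ^ (n - 1) - 1)
    have e1 : (t * x) ^ 2 ^ (n - 1) = z := by
      refine invol_unique (pow_mem (mem_zpowers _) _) (h.C_le h.zC) ?_ h.zc.ne ?_ h.zc.sq
      · refine pow_ne_one_of_lt_orderOf (by positivity) ?_
        rw [hn]
        exact Nat.pow_lt_pow_right one_lt_two (by omega)
      · rw [← pow_add, ← two_mul, ← pow_succ', show n - 1 + 1 = n by omega, ← hn, pow_orderOf_eq_one]
    rw [h.tg, ← e1, eq_comm, eq_mul_inv_iff_mul_eq, ← pow_succ,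
      Nat.sub_add_cancel Nat.one_le_two_pow]

omit [Finite G] in
theorem t_not_mem_Cs : t ∉ Cs (qd t x) := fun ht => h.c1 (by
  have := h.xt
  rw [mem_Cs.1 ht x x_mem, mul_inv_cancel_right] at this
  exact mul_eq_left.1 this.symm)

theorem inf_Cs (hu : u ∈ qd t x) (hc : u ∈ Cs (qd t x)) : u = 1 ∨ u = z := by
  have hy := mem_Cs.1 hc y (h.C_mem h.yC)
  have ht := mem_Cs.1 hc t t_mem
  have ny : ∀ w f, f ∈ zpowers c → w * y * w⁻¹ = y⁻¹ → y * (w * f) ≠ w * f * y := by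
    intro w f hf hw e
    apply h.y2
    rw [mul_assoc w, comm_of_mem_zpowers hf h.yC, ← mul_assoc, ← mul_assoc, mul_left_inj] at e
    rw [← e, mul_inv_cancel_right] at hw
    nth_rewrite 1 [hw]
    exact inv_mul_cancel y
  obtain ⟨f, hf, e | e | e | e⟩ := h.mem_qd hu
  · subst e
    refine h.invol hf ?_
    rw [h.mul_t hf, mul_right_inj] at ht
    nth_rewrite 1 [ht]
    exact inv_mul_cancel u
  · exact (ny t f hf (h.invf h.yC) (e ▸ hy)).elim
  · exact (ny x f hf (h.xinv h.yC) (e ▸ hy)).elim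
  · have tp : t * (t * x * f) * t⁻¹ = z * (t * x * f)⁻¹ := by
      calc t * (t * x * f) * t⁻¹ = t * (t * x) * t⁻¹ * (t * f * t⁻¹) := by group
        _ = z * (f * (t * x))⁻¹ := by rw [h.tg, h.invf hf]; group
        _ = _ := by rw [h.gcomm hf]
    rw [← e, ht, mul_inv_cancel_right, eq_mul_inv_iff_mul_eq, e, h.sq_gf hf] at tp
    refine (h.cz ?_).elim
    have := mul_mem (tp ▸ h.z2) (inv_mem (sq_mem_sq hf))
    rwa [mul_inv_cancel_right] at this

/-- The involutions of `⟨t, x⟩` outside `t ⟨c, t x⟩`. -/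
theorem invol_of_mem {A : Subgroup G} (ht : t ∉ A) (hx : x ∈ A) (hc : c ∈ A) (hu : u ∈ qd t x)
    (huA : u ∈ A) (uu : u * u = 1) : u = 1 ∨ u = z := by
  obtain ⟨f, hf, e | e | e | e⟩ := h.mem_qd hu
  · exact h.invol (e ▸ hf) uu
  · refine (ht ?_).elim
    have := mul_mem huA (inv_mem (zpowers_le.2 hc hf))
    rwa [e, mul_inv_cancel_right] at this
  · refine (h.zc.ne ?_).elim
    rw [← h.sq_of_conj_y (mul_mem h.xS (h.CS hf)) (h.conj_xf hf), ← e, uu]
  · refine (ht ?_).elim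
    have := mul_mem (mul_mem huA (inv_mem (zpowers_le.2 hc hf))) (inv_mem hx)
    rwa [e, mul_inv_cancel_right, mul_inv_cancel_right] at this

end SD

end Cfsg.Lib.Rank2.Std
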